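import Cfsg.Agent.H800.ME.Data
import Cfsg.Agent.BpSpor.MBigCo
import Cfsg.Agent.CpAutON.Gen
import Cfsg.Agent.Lib.Dihedral
import Cfsg.Agent.H989.OutOrth.SymFour
import Cfsg.Agent.MFive.Fus
import Cfsg.Agent.FastGrp
import Cfsg.Agent.Prune
set_option linter.all false
prune_inst 0x7f00000000000000000000000000000000000000000000000000000000000000000000000000000000000000000000000000000000000000000000000000000000000000000000000000000000000000003fffffffffffffffffffffffffffbeffbdffffffff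
open scoped Cfsg.Agent.FastGrp

/-!
# The centraliser of an element `s` of order eleven of `Co1`

* `classOf` : the elements of order 11 of `Co1` are conjugate;
* `card_cent` : `|C(s)| = 66`, `exists_equiv` : `C(s) / ⟨s⟩ ≅ Sym(3)`;
* `faith`, `fix_three` : `C(s) / ⟨s⟩` is faithful on the fixed points of `s` on `Λ / 2Λ`, its elements of order 3 have no
  fixed points there;
* `f` of order 5, fixed rank 8, acts on `⟨s⟩` as `s ↦ s³`; `t` inverts `s`.
-/

set_option autoImplicit false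

namespace Cfsg.Agent.H800.ME.CoFacts

open Cfsg Subgroup Cfsg.Agent.H800.ME.Data Cfsg.Agent.MonsterU.Lam2
open Cfsg.Agent.LThreeMB (fr fr_conj XX Zx Faith)
open Cfsg.Spor (Co1)

theorem finite_co1 : Finite Co1 := BpSpor.MBigCo.finite_co1

/-- the projection -/
noncomputable abbrev q : Co0 →* Co1 := QuotientGroup.mk' (center Co0)

/-- order 3, no fixed points -/
noncomputable def a : Co1 := QuotientGroup.mk (e 0)
/-- order 2 -/
noncomputable def w : Co1 := QuotientGroup.mk (e 1)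
/-- order 11 -/
noncomputable def s : Co1 := QuotientGroup.mk (e 2)
/-- order 5, fixed rank 8 -/
noncomputable def f : Co1 := QuotientGroup.mk (e 3)
/-- inverts `s` -/
noncomputable def t : Co1 := QuotientGroup.mk (e 4)

theorem a_pow1 : a ^ 3 = 1 := by
  have h := congrArg q a_pow
  rwa [map_pow, map_one] at h

theorem w_sq1 : w * w = 1 := by
  have h := congrArg q w_sq
  rwa [map_mul, map_one] at h

theorem s_pow : s ^ 11 = 1 := by
  have h := congrArg q r_pow
  rwa [map_pow, map_one] at h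

theorem f_pow1 : f ^ 5 = 1 := by
  have h := congrArg q f_pow
  rwa [map_pow, map_one] at h

theorem wa1 : w * a = a * (a * w) := by
  have h := congrArg q wa
  rwa [map_mul, map_mul, map_mul] at h

theorem as : a * s = s * a := by
  have h := congrArg q ar
  rwa [map_mul, map_mul] at h

theorem ws : w * s = s * w := by
  have h := congrArg q wr
  rwa [map_mul, map_mul] at h

theorem fs : f * s * f⁻¹ = s ^ 3 := by
  have h := congrArg q fr'
  rw [map_mul, map_mul, map_mul, map_mul] at h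
  have h' : f * s = s * (s * (s * f)) := h
  rw [h']
  simp only [pow_succ, pow_zero, one_mul, mul_assoc, mul_inv_cancel, mul_one]

theorem ts : t * s * t⁻¹ = s⁻¹ := by
  have h := congrArg q rtr
  rw [map_mul, map_mul] at h
  have h' : s * (t * s) = t := h
  have h2 : t * s = s⁻¹ * t := by rw [eq_inv_mul_iff_mul_eq]; exact h'
  rw [h2, mul_assoc, mul_inv_cancel, mul_one]

theorem fr_a1 : fr a = 1 := fr_a

theorem fr_s : fr s = 2 ^ 4 := fr_r

theorem fr_f1 : fr f = 2 ^ 8 := fr_f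

theorem fr_one : fr (1 : Co1) = 2 ^ 24 := by
  rw [fr, ← card_L2]
  exact Nat.card_congr (Equiv.subtypeUnivEquiv fun v => one_smul _ v)

theorem a_ne : a ≠ 1 := by
  intro h
  have h1 := fr_a1
  rw [h, fr_one] at h1
  norm_num at h1

theorem s_ne : s ≠ 1 := by
  intro h
  have h1 := fr_s
  rw [h, fr_one] at h1
  norm_num at h1

theorem f_ne : f ≠ 1 := by
  intro h
  have h1 := fr_f1
  rw [h, fr_one] at h1
  norm_num at h1

theorem w_ne : w ≠ 1 := by
  intro h
  have h1 := wa1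
  rw [h, one_mul, mul_one] at h1
  exact a_ne (by
    calc a = a⁻¹ * (a * a) := by group
      _ = 1 := by rw [← h1, inv_mul_cancel])

theorem orderOf_a : orderOf a = 3 := by
  have : Fact (Nat.Prime 3) := ⟨Nat.prime_three⟩
  exact orderOf_eq_prime a_pow1 a_ne

theorem orderOf_w : orderOf w = 2 := by
  have : Fact (Nat.Prime 2) := ⟨Nat.prime_two⟩
  exact orderOf_eq_prime (by rw [pow_two, w_sq1]) w_ne

theorem orderOf_s : orderOf s = 11 := by
  have : Fact (Nat.Prime 11) := ⟨by norm_num⟩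
  exact orderOf_eq_prime s_pow s_ne

theorem orderOf_f : orderOf f = 5 := by
  have : Fact (Nat.Prime 5) := ⟨by norm_num⟩
  exact orderOf_eq_prime f_pow1 f_ne

theorem card_co1 : Nat.card Co1 = 4157776806543360000 := BpSpor.MBigCo.card_co1

theorem not_sq : ¬ 11 ^ 2 ∣ Nat.card Co1 := by rw [card_co1]; norm_num

/-! ### The powers of `s` are conjugate -/

/-- `s` is conjugate to `s ^ k` -/
def PC (k : ℕ) : Prop := ∃ g : Co1, g * s * g⁻¹ = s ^ k

theorem PC.mul {k l : ℕ} (hk : PC k) (hl : PC l) : PC (k * l) := by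
  obtain ⟨g, hg⟩ := hk
  obtain ⟨h, hh⟩ := hl
  refine ⟨g * h, ?_⟩
  have h1 : g * h * s * (g * h)⁻¹ = g * (h * s * h⁻¹) * g⁻¹ := by group
  rw [h1, hh, ← conj_pow, hg, ← pow_mul]

theorem PC.of_mod {k l : ℕ} (hk : PC k) (h : k % 11 = l % 11) : PC l := by
  obtain ⟨g, hg⟩ := hk
  refine ⟨g, ?_⟩
  rw [hg, ← pow_mod_orderOf, ← pow_mod_orderOf s l, orderOf_s, h]

theorem pc1 : PC 1 := ⟨1, by rw [one_mul, inv_one, mul_one, pow_one]⟩

theorem pc3 : PC 3 := ⟨f, fs⟩

theorem pc10 : PC 10 := ⟨t, by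
  rw [ts, inv_eq_iff_mul_eq_one, ← pow_succ']
  exact s_pow⟩

theorem pc_of {k : ℕ} (hk : ¬ 11 ∣ k) : PC k := by
  have h9 := pc3.mul pc3
  have h27 := h9.mul pc3
  have h81 := h27.mul pc3
  have hlt : k % 11 < 11 := Nat.mod_lt _ (by norm_num)
  have hne : k % 11 ≠ 0 := fun h => hk (Nat.dvd_of_mod_eq_zero h)
  obtain ⟨m, hm⟩ : ∃ m, m = k % 11 := ⟨_, rfl⟩
  rw [← hm] at hlt hne
  have key : PC m := by
    interval_cases m
    · exact absurd rfl hne
    · exact pc1
    · exact (h9.mul pc10).of_mod (by norm_num)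
    · exact pc3
    · exact h81.of_mod (by norm_num)
    · exact h27.of_mod (by norm_num)
    · exact (h27.mul pc10).of_mod (by norm_num)
    · exact (h81.mul pc10).of_mod (by norm_num)
    · exact (pc3.mul pc10).of_mod (by norm_num)
    · exact h9.of_mod (by norm_num)
    · exact pc10
  refine key.of_mod ?_
  rw [hm, Nat.mod_mod]

theorem conj_s {x : Co1} (hx : orderOf x = 11) : ∃ g : Co1, g * s * g⁻¹ = x := by
  have hfin := finite_co1
  have : Fact (Nat.Prime 11) := ⟨by norm_num⟩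
  obtain ⟨g, hg⟩ := CpAutON.Gen.conj_into not_sq hx orderOf_s
  obtain ⟨k, hk⟩ := (Submonoid.mem_powers_iff _ _).1 (mem_powers_iff_mem_zpowers.2 hg)
  have hk11 : ¬ 11 ∣ k := by
    rintro ⟨m, rfl⟩
    rw [pow_mul, s_pow, one_pow] at hk
    have h1 : x = 1 := by
      have : x = g⁻¹ * (g * x * g⁻¹) * g := by group
      rw [this, ← hk, mul_one, inv_mul_cancel]
    rw [h1, orderOf_one] at hx
    norm_num at hx
  obtain ⟨h, hh⟩ := pc_of hk11
  refine ⟨g⁻¹ * h, ?_⟩
  have h1 : g⁻¹ * h * s * (g⁻¹ * h)⁻¹ = g⁻¹ * (h * s * h⁻¹) * g := by group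
  rw [h1, hh, hk]
  group

/-- **The elements of order 11 are conjugate.** -/
theorem classOf (n : ℕ) : MFive.ClassOf 11 n := by
  intro x y hx hy _ _
  obtain ⟨g, rfl⟩ := conj_s hx
  obtain ⟨h, rfl⟩ := conj_s hy
  exact ⟨h * g⁻¹, by group⟩

/-! ### The order of the centraliser -/

theorem mem_norm {g : Co1} {k : ℕ} (h : g * s * g⁻¹ = s ^ k) : g ∈ normalizer ((zpowers s : Subgroup Co1) : Set Co1) := by
  have hfin := finite_co1
  have h1 : (zpowers s).map (MulAut.conj g).toMonoidHom = zpowers s := by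
    refine Subgroup.eq_of_le_of_card_ge ?_ ?_
    · rintro _ ⟨y, hy, rfl⟩
      obtain ⟨i, rfl⟩ := mem_zpowers_iff.1 hy
      show g * s ^ i * g⁻¹ ∈ zpowers s
      rw [← conj_zpow, h]
      exact zpow_mem (npow_mem_zpowers s k) i
    · exact (Nat.card_congr (Subgroup.equivMapOfInjective _ _ (MulAut.conj g).injective).toEquiv).le
  rw [mem_normalizer_iff]
  intro y
  constructor
  · intro hy
    rw [← h1]
    exact ⟨y, hy, rfl⟩
  · intro hy
    have h7 : g * y * g⁻¹ ∈ (zpowers s).map (MulAut.conj g).toMonoidHom := by rw [h1]; exact hy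
    obtain ⟨z, hz, hz2⟩ := h7
    have h8 : z = y := (MulAut.conj g).injective hz2
    rwa [← h8]

/-- the powers `g ^ r` centralise `s`, `r` the order of `N(⟨s⟩) / C(s)` -/
theorem pow_comm {g : Co1} {k : ℕ} (h : g * s * g⁻¹ = s ^ k) :
    g ^ Nat.card ↥((zpowers s).normalizerMonoidHom).range * s = s * g ^ Nat.card ↥((zpowers s).normalizerMonoidHom).range := by
  have hfin := finite_co1
  set φ := (zpowers s).normalizerMonoidHom with hφ
  have hg := mem_norm h
  have h1 : (⟨φ ⟨g, hg⟩, ⟨_, rfl⟩⟩ : ↥φ.range) ^ Nat.card ↥φ.range = 1 := pow_card_eq_one'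
  have h2 : φ (⟨g, hg⟩ ^ Nat.card ↥φ.range) = 1 := by
    rw [map_pow]
    exact congrArg Subtype.val h1
  have h3 : (⟨g, hg⟩ : ↥(normalizer ((zpowers s : Subgroup Co1) : Set Co1))) ^ Nat.card ↥φ.range ∈ φ.ker := h2
  rw [hφ, Subgroup.normalizerMonoidHom_ker, mem_subgroupOf, mem_centralizer_iff] at h3
  exact (h3 s (mem_zpowers s)).symm

theorem conj_pow_eq {g : Co1} {k : ℕ} (h : g * s * g⁻¹ = s ^ k) (m : ℕ) : g ^ m * s * (g ^ m)⁻¹ = s ^ (k ^ m) := by
  induction m with
  | zero => rw [pow_zero, pow_zero, one_mul, inv_one, mul_one, pow_one]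
  | succ m ih =>
    have h1 : g ^ (m + 1) * s * (g ^ (m + 1))⁻¹ = g * (g ^ m * s * (g ^ m)⁻¹) * g⁻¹ := by
      rw [pow_succ']; group
    rw [h1, ih, ← conj_pow, h, ← pow_mul, pow_succ']

theorem card_range : Nat.card ↥((zpowers s).normalizerMonoidHom).range = 10 := by
  have hfin := finite_co1
  have : Fact (Nat.Prime 11) := ⟨by norm_num⟩
  set φ := (zpowers s).normalizerMonoidHom with hφ
  have h1 : Nat.card ↥φ.range ∣ 10 := by
    have h2 := Subgroup.card_subgroup_dvd_card φ.range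
    rwa [CpAutON.Gen.card_mulAut orderOf_s] at h2
  have key : ∀ {g : Co1} {k : ℕ}, g * s * g⁻¹ = s ^ k → k ^ Nat.card ↥φ.range % 11 = 1 := by
    intro g k hg
    have h2 := pow_comm hg
    rw [← hφ] at h2
    have h3 := conj_pow_eq hg (Nat.card ↥φ.range)
    rw [h2, mul_inv_cancel_right] at h3
    have h4 : s ^ 1 = s ^ (k ^ Nat.card ↥φ.range) := by rw [pow_one]; exact h3
    rw [pow_inj_mod, orderOf_s] at h4
    rw [← h4]
  have k3 := key fs
  have k10 := key (k := 10) (g := t) (by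
    rw [ts, inv_eq_iff_mul_eq_one, ← pow_succ']
    exact s_pow)
  obtain ⟨r, hr⟩ : ∃ r, r = Nat.card ↥φ.range := ⟨_, rfl⟩
  rw [← hr] at h1 k3 k10 ⊢
  have hr10 : r ≤ 10 := Nat.le_of_dvd (by norm_num) h1
  interval_cases r <;> revert h1 k3 k10 <;> norm_num

/-- **`|C(s)| = 66`** -/
theorem card_cent : Nat.card ↥(centralizer ({s} : Set Co1)) = 66 := by
  have hfin := finite_co1
  have : Fact (Nat.Prime 11) := ⟨by norm_num⟩
  have hle := BpSpor.MBigCo.card_cent orderOf_s
  have hpos : 0 < Nat.card ↥(centralizer ({s} : Set Co1)) := Nat.card_pos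
  have hd : ∀ {y : Co1} {n : ℕ}, y * s = s * y → orderOf y = n → n ∣ Nat.card ↥(centralizer ({s} : Set Co1)) := by
    intro y n hy hn
    have hm : y ∈ centralizer ({s} : Set Co1) := mem_centralizer_singleton_iff.2 hy
    rw [← hn, ← Subgroup.orderOf_mk y hm]
    exact orderOf_dvd_natCard _
  have h3 := hd as orderOf_a
  have h2 := hd ws orderOf_w
  have h11 := hd rfl orderOf_s
  have h66 : 66 ∣ Nat.card ↥(centralizer ({s} : Set Co1)) :=
    Nat.Coprime.mul_dvd_of_dvd_of_dvd (m := 6) (n := 11) (by norm_num)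
      (Nat.Coprime.mul_dvd_of_dvd_of_dvd (m := 2) (n := 3) (by norm_num) h2 h3) h11
  obtain ⟨n, hn, hc⟩ := CpAutON.Gen.card_eq not_sq orderOf_s
  rw [card_range, card_co1] at hc
  obtain ⟨m, hm⟩ := h66
  rw [hm] at hle hpos hc ⊢
  have hm2 : m = 1 ∨ m = 2 := by omega
  rcases hm2 with rfl | rfl
  · rfl
  · exfalso
    omega

/-! ### `C(s) / ⟨s⟩` -/

theorem card_XX : Nat.card (XX s) = 6 := by
  have hfin := finite_co1
  have h1 := Subgroup.card_eq_card_quotient_mul_card_subgroup (Zx s)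
  have h2 : Nat.card ↥(Zx s) = 11 := by
    rw [Zx, Nat.card_zpowers, ← orderOf_s]
    exact Subgroup.orderOf_mk s _
  rw [card_cent, h2] at h1
  have h3 : Nat.card (XX s) * 11 = 66 := h1.symm
  omega

/-- the image of `a` -/
noncomputable def aa : XX s := LThreeMB.mk s as
/-- the image of `w` -/
noncomputable def ww : XX s := LThreeMB.mk s ws

theorem aa_pow : aa ^ 3 = 1 := by
  have h0 : a ^ 3 * s = s * a ^ 3 := (show Commute a s from as).pow_left 3
  have h : aa ^ 3 = LThreeMB.mk s h0 := rfl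
  rw [h, LThreeMB.mk_eq_one]
  exact ⟨0, by rw [zpow_zero, a_pow1]⟩

theorem aa_ne : aa ≠ 1 := by
  intro h
  obtain ⟨i, hi⟩ := (LThreeMB.mk_eq_one as).1 h
  have h1 : a ^ 11 = 1 := by rw [← hi, ← zpow_natCast, ← zpow_mul, mul_comm, zpow_mul, zpow_natCast, s_pow, one_zpow]
  have h2 := orderOf_dvd_of_pow_eq_one h1
  rw [orderOf_a] at h2
  norm_num at h2

theorem orderOf_aa : orderOf aa = 3 := by
  have : Fact (Nat.Prime 3) := ⟨Nat.prime_three⟩
  exact orderOf_eq_prime aa_pow aa_ne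

theorem ww_sq : ww * ww = 1 := by
  have h0 : w * w * s = s * (w * w) := (show Commute w s from ws).mul_left ws
  have h : ww * ww = LThreeMB.mk s h0 := rfl
  rw [h, LThreeMB.mk_eq_one]
  exact ⟨0, by rw [zpow_zero, w_sq1]⟩

theorem ww_aa : ww * aa * ww = aa⁻¹ := by
  have h : ww * aa = aa * (aa * ww) := by
    show LThreeMB.mk s (g := w * a) ((show Commute w s from ws).mul_left as) =
      LThreeMB.mk s (g := a * (a * w)) ((show Commute a s from as).mul_left ((show Commute a s from as).mul_left ws))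
    exact LThreeMB.mk_congr _ _ wa1
  rw [h, mul_assoc, mul_assoc, ww_sq, mul_one, eq_inv_iff_mul_eq_one, ← aa_pow]
  simp only [pow_succ, pow_zero, one_mul]

theorem ww_notMem : ww ∉ zpowers aa := by
  intro h
  obtain ⟨i, hi⟩ := mem_zpowers_iff.1 h
  have h1 := ww_aa
  have h2 : Commute (aa ^ i) aa := (Commute.refl aa).zpow_left i
  rw [← hi, h2.eq, mul_assoc, hi, ww_sq, mul_one] at h1
  have h3 : aa * aa = 1 := by
    nth_rw 2 [h1]
    exact mul_inv_cancel aa
  have h4 := orderOf_dvd_of_pow_eq_one (x := aa) (n := 2) (by rw [pow_two, h3])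
  rw [orderOf_aa] at h4
  norm_num at h4

/-- **`C(s) / ⟨s⟩ ≅ Sym(3)`** -/
theorem exists_equiv : Nonempty (XX s ≃* Equiv.Perm (Fin 3)) := by
  obtain ⟨d⟩ := H989.OutOrth.SymFour.dihedral_three
  obtain ⟨g⟩ := Lib.Dihedral.nonempty_mulEquiv (n := 3) (by norm_num) aa ww orderOf_aa ww_sq ww_aa ww_notMem
    (by rw [card_XX])
  exact ⟨g.trans d.symm⟩

theorem sym_normal : ∀ n c : Equiv.Perm (Fin 3), c ≠ 1 → c * c * c = 1 → n ≠ 1 →
    n = c ∨ n = c * c ∨ n * c * n⁻¹ * c⁻¹ = c := by decide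

theorem aa_cube : aa * aa * aa = 1 := by rw [← aa_pow]; simp only [pow_succ, pow_zero, one_mul]

theorem xx_normal {n : XX s} (hn : n ≠ 1) : n = aa ∨ n = aa * aa ∨ n * aa * n⁻¹ * aa⁻¹ = aa := by
  obtain ⟨φ⟩ := exists_equiv
  have h := sym_normal (φ n) (φ aa) (fun h => aa_ne (φ.injective (by rw [h, map_one])))
    (by rw [← map_mul, ← map_mul, aa_cube, map_one]) (fun h => hn (φ.injective (by rw [h, map_one])))
  simp only [← map_mul, ← map_inv, φ.injective.eq_iff] at h
  exact h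

theorem fix_a {v : L2} (h : a • v = v) : v = 0 := by
  obtain ⟨h1, -⟩ := Nat.card_eq_one_iff_unique.1 fr_a1
  have h2 := Subtype.ext_iff.1 (h1.elim ⟨v, h⟩ ⟨0, smul_zero a⟩)
  exact h2

/-- fixed points of the elements of `⟨s⟩` -/
theorem smul_zpow {v : L2} (hv : s • v = v) (i : ℤ) : s ^ i • v = v := by
  have h2 : s ∈ MulAction.stabilizer Co1 v := hv
  exact (MulAction.stabilizer Co1 v).zpow_mem h2 i

/-- **Faithful action.** -/
theorem faith : Faith s := by
  intro g hg hv
  by_contra hn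
  have h1 : LThreeMB.mk s hg ≠ 1 := by
    intro h
    obtain ⟨i, hi⟩ := (LThreeMB.mk_eq_one hg).1 h
    exact hn (mem_zpowers_iff.2 ⟨i, hi⟩)
  have haa : (a * a) * s = s * (a * a) := (show Commute a s from as).mul_left as
  -- a fixed point of `s`
  obtain ⟨v, hsv, hv0⟩ : ∃ v : L2, s • v = v ∧ v ≠ 0 := by
    by_contra hcon
    push Not at hcon
    have h2 : fr s = 1 := by
      rw [fr, Nat.card_eq_one_iff_unique]
      exact ⟨⟨fun x y => Subtype.ext ((hcon x x.2).trans (hcon y y.2).symm)⟩, ⟨0, smul_zero _⟩⟩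
    rw [fr_s] at h2
    norm_num at h2
  apply hv0
  rcases xx_normal h1 with h | h | h
  · obtain ⟨i, hi⟩ := (LThreeMB.mk_eq_mk hg as).1 h
    apply fix_a
    rw [← hi, mul_smul, smul_zpow hsv, hv v hsv]
  · obtain ⟨i, hi⟩ := (LThreeMB.mk_eq_mk hg haa).1 (show LThreeMB.mk s hg = LThreeMB.mk s haa from h)
    have h5 : (a * a) • v = v := by rw [← hi, mul_smul, smul_zpow hsv, hv v hsv]
    apply fix_a
    have h6 : a = (a * a) * (a * a) := by
      have h7 := a_pow1
      calc a = a ^ 3 * a := by rw [h7, one_mul]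
        _ = _ := by simp only [pow_succ, pow_zero, one_mul, mul_assoc]
    rw [h6, mul_smul, h5, h5]
  · have hgi : g⁻¹ * s = s * g⁻¹ := (show Commute g s from hg).inv_left
    have hai : a⁻¹ * s = s * a⁻¹ := (show Commute a s from as).inv_left
    have hc : (g * a * g⁻¹ * a⁻¹) * s = s * (g * a * g⁻¹ * a⁻¹) :=
      (((show Commute g s from hg).mul_left as).mul_left hgi).mul_left hai
    obtain ⟨i, hi⟩ := (LThreeMB.mk_eq_mk hc as).1 (show LThreeMB.mk s hc = LThreeMB.mk s as from h)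
    apply fix_a
    rw [← hi, mul_smul, smul_zpow hsv]
    -- the commutator is trivial on the fixed points
    have h6 : s • (a⁻¹ • v) = a⁻¹ • v := by rw [← mul_smul, ← hai, mul_smul, hsv]
    have h7 : g⁻¹ • (a⁻¹ • v) = a⁻¹ • v := by rw [inv_smul_eq_iff]; exact (hv _ h6).symm
    rw [mul_smul, mul_smul, mul_smul, h7, smul_inv_smul]
    exact hv v hsv

/-- **A fixed class of type 4.** -/
theorem exists_four : ∃ v : L2, s • v = v ∧ IsType 4 v := by
  obtain ⟨g, hg⟩ := conj_s BpSpor.MBigCo.orderOf_s11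
  have h1 := BpSpor.MBigCo.s11_e8
  rw [← hg, mul_smul, mul_smul, ← eq_inv_smul_iff (g := g)] at h1
  refine ⟨_, h1, IsType.smul1 ⟨_, ?_, rfl⟩ _⟩
  rw [CpAutBig.FixCount.sqNorm_e8']
  norm_num

end Cfsg.Agent.H800.ME.CoFacts
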