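import Cfsg.Agent.LThreeCo1.Ev
import Cfsg.Agent.MFive.FixN
import Cfsg.Agent.Prune
set_option linter.all false
prune_inst 0x7fffffffffffffffffff7ffffff9fffd9bd3dfffefdff9fbffebebffffbf33f7abcffba7edf4f0fedef6e2b510b97853fb7eefffe86fdc7ffffdfff75ffbee7ff7ffbd0951da94ae1ffc6ffffbf17fae7f3fffffffffffffffffffffffffffffffffffffffff
open scoped Cfsg.Agent.FastGrp

namespace Cfsg.Agent.Co0Q_H800_ME_Data

open Cfsg Cfsg.Agent.SporadicA Cfsg.Agent.SporadicStructure.Co0Matrix Cfsg.Agent.CoOneType.CoFast Finset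

/-- dot product with two accumulators -/
private noncomputable def dk (r : List ℤ) : List ℤ → ℕ → ℕ → ℤ :=
  List.rec (fun _ P N => Int.subNatNat P N) (fun a _ ih l P N => List.rec (Int.subNatNat P N) (fun b t _ =>
    Int.rec (fun x => Int.rec (fun y => ih t (Nat.add P (Nat.mul x y)) N) (fun y => ih t P (Nat.add N (Nat.mul x (Nat.succ y)))) b)
      (fun x => Int.rec (fun y => ih t P (Nat.add N (Nat.mul (Nat.succ x) y)))
        (fun y => ih t (Nat.add P (Nat.mul (Nat.succ x) (Nat.succ y))) N) b) a) l) r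

private theorem dk_eq : ∀ (r l : List ℤ) (P N : ℕ), dk r l P N = P - N + dotL r l
  | [], l, P, N => by rw [dotL_nil_left, add_zero]; exact Int.subNatNat_eq_coe
  | a :: s, [], P, N => by rw [dotL_nil_right, add_zero]; exact Int.subNatNat_eq_coe
  | .ofNat x :: s, .ofNat y :: t, P, N => (dk_eq s t (P + x * y) N).trans (by
      rw [dotL_cons, Int.ofNat_eq_natCast, Int.ofNat_eq_natCast]; push_cast; ring)
  | .ofNat x :: s, .negSucc y :: t, P, N => (dk_eq s t P (N + x * (y + 1))).trans (by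
      rw [dotL_cons, Int.ofNat_eq_natCast, Int.negSucc_eq]; push_cast; ring)
  | .negSucc x :: s, .ofNat y :: t, P, N => (dk_eq s t P (N + (x + 1) * y)).trans (by
      rw [dotL_cons, Int.ofNat_eq_natCast, Int.negSucc_eq]; push_cast; ring)
  | .negSucc x :: s, .negSucc y :: t, P, N => (dk_eq s t (P + (x + 1) * (y + 1)) N).trans (by
      rw [dotL_cons, Int.negSucc_eq, Int.negSucc_eq]; push_cast; ring)

private theorem dk0 (r l : List ℤ) : dk r l 0 0 = dotL r l := by rw [dk_eq]; simp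

/-- entry -/
private def en (A : List (List ℤ)) (i j : ℕ) : ℤ := (A.getD i []).getD j 0

/-- shape and size of the entries -/
private def sh (A : List (List ℤ)) : Bool := A.all fun r => Nat.beq r.length 24 && r.all fun a => Nat.ble a.natAbs 1000

private theorem sh_len {A : List (List ℤ)} (h : sh A = true) {r : List ℤ} (hr : r ∈ A) : r.length = 24 :=
  Nat.eq_of_beq_eq_true (Bool.and_eq_true_iff.1 (List.all_eq_true.1 h r hr)).1

private theorem sh_le {A : List (List ℤ)} (h : sh A = true) (i : ℕ) : (A.getD i []).length ≤ 24 := by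
  by_cases hi : i < A.length
  · exact (sh_len h (getD_mem_of_lt A [] hi)).le
  · rw [List.getD_eq_default _ _ (not_lt.1 hi)]; exact Nat.zero_le _

private theorem sh_abs {A : List (List ℤ)} (h : sh A = true) (i j : ℕ) : |en A i j| ≤ 1000 := by
  unfold en
  by_cases hi : i < A.length
  · by_cases hj : j < (A.getD i []).length
    · have := Nat.le_of_ble_eq_true (List.all_eq_true.1 (Bool.and_eq_true_iff.1 (List.all_eq_true.1 h _ (getD_mem_of_lt A [] hi))).2 _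
        (getD_mem_of_lt _ 0 hj))
      rw [Int.abs_eq_natAbs]; exact_mod_cast this
    · rw [List.getD_eq_default _ _ (not_lt.1 hj)]; decide
  · rw [List.getD_eq_default _ _ (not_lt.1 hi), List.getD_nil]; decide

private theorem sum_lt (B : ℕ) (c : ℕ → ℕ) (h : ∀ k, c k < B) : ∀ n, ∑ k ∈ range n, c k * B ^ k < B ^ n
  | 0 => Nat.one_pos
  | n + 1 => by
    rw [sum_range_succ, pow_succ']
    exact lt_of_lt_of_le (Nat.add_lt_add_right (sum_lt B c h n) _) (by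
      rw [add_comm, ← Nat.succ_mul]; exact Nat.mul_le_mul_right _ (h n))

private theorem land_dig (w m : ℕ) (hm : m < 2 ^ w) : ∀ (n : ℕ) (c : ℕ → ℕ), (∀ k, c k < 2 ^ w) →
    (∑ k ∈ range n, c k * (2 ^ w) ^ k) &&& (∑ k ∈ range n, m * (2 ^ w) ^ k) = 0 → ∀ k < n, c k &&& m = 0
  | 0, _, _, _, k, hk => absurd hk (Nat.not_lt_zero k)
  | n + 1, c, hc, h, k, hk => by
    have e : ∀ d : ℕ → ℕ, ∑ k ∈ range (n + 1), d k * (2 ^ w) ^ k = d 0 + 2 ^ w * ∑ k ∈ range n, d (k + 1) * (2 ^ w) ^ k := fun d => by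
      rw [sum_range_succ', pow_zero, mul_one, add_comm, mul_sum]
      exact congrArg _ (sum_congr rfl fun k _ => by rw [pow_succ', mul_left_comm])
    rw [e c, e fun _ => m] at h
    cases k with
    | zero =>
      have := congrArg (· % 2 ^ w) h
      simpa only [Nat.and_mod_two_pow, Nat.add_mul_mod_self_left, Nat.mod_eq_of_lt hm, Nat.mod_eq_of_lt (hc 0), Nat.zero_mod] using this
    | succ k =>
      have := congrArg (· / 2 ^ w) h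
      simp only [Nat.and_div_two_pow, Nat.add_mul_div_left _ _ (Nat.two_pow_pos w), Nat.div_eq_of_lt hm, Nat.div_eq_of_lt (hc 0),
        Nat.zero_div, Nat.zero_add] at this
      exact land_dig w m hm n (fun k => c (k + 1)) (fun k => hc _) this k (Nat.lt_of_succ_lt_succ hk)

/-- the sum of `n` powers of `2 ^ w` -/
private def jj (w n : ℕ) : ℕ := Nat.div (Nat.sub (Nat.pow 2 (Nat.mul w n)) 1) (Nat.sub (Nat.pow 2 w) 1)

private theorem jj_eq {w : ℕ} (hw : w ≠ 0) (n : ℕ) : jj w n = ∑ k ∈ range n, (2 ^ w) ^ k := by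
  rw [Nat.geomSum_eq (Nat.one_lt_two_pow hw), ← pow_mul]; rfl

/-- all digits are divisible by `2 ^ e` -/
private def tst (n e : ℕ) (N : ℤ) : Bool :=
  Nat.beq (Nat.land (N + Int.ofNat (Nat.mul (Nat.pow 2 40) (Nat.mul (jj 48 n) (jj (Nat.mul 48 n) n)))).toNat
    (Nat.mul (Nat.sub (Nat.pow 2 e) 1) (Nat.mul (jj 48 n) (jj (Nat.mul 48 n) n)))) 0

private theorem key {n e : ℕ} (hn : n ≠ 0) (he : e ≤ 40) (d : ℕ → ℕ → ℤ) (hd : ∀ a b, |d a b| < 2 ^ 40)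
    (h : tst n e (∑ b ∈ range n, (∑ a ∈ range n, d a b * (2 ^ 48) ^ a) * (2 ^ (48 * n)) ^ b) = true) (a b : ℕ) (ha : a < n) (hb : b < n) :
    2 ^ e ∣ d a b := by
  have h1 : ∀ a b, (((d a b + 2 ^ 40).toNat : ℕ) : ℤ) = d a b + 2 ^ 40 := fun a b =>
    Int.toNat_of_nonneg (by linarith only [(abs_lt.1 (hd a b)).1])
  have h2 : ∀ a b, (d a b + 2 ^ 40).toNat < 2 ^ 48 := fun a b => by
    have := (abs_lt.1 (hd a b)).2
    have := h1 a b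
    omega
  have h3 : 2 ^ e - 1 < 2 ^ 48 := lt_of_le_of_lt (Nat.sub_le _ _) (Nat.pow_lt_pow_right (by decide) (by omega))
  have h4 := Nat.eq_of_beq_eq_true h
  have e1 : (∑ b ∈ range n, (∑ a ∈ range n, d a b * (2 ^ 48) ^ a) * (2 ^ (48 * n)) ^ b) +
      Int.ofNat (Nat.mul (Nat.pow 2 40) (Nat.mul (jj 48 n) (jj (Nat.mul 48 n) n))) =
      ((∑ b ∈ range n, (∑ a ∈ range n, (d a b + 2 ^ 40).toNat * (2 ^ 48) ^ a) * (2 ^ (48 * n)) ^ b : ℕ) : ℤ) := by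
    show _ + ((2 ^ 40 * (jj 48 n * jj (48 * n) n) : ℕ) : ℤ) = _
    rw [jj_eq (by decide), jj_eq (Nat.mul_ne_zero (by decide) hn)]
    simp only [Nat.cast_sum, Nat.cast_mul, Nat.cast_pow, Nat.cast_ofNat, h1, add_mul, sum_add_distrib]
    rw [← mul_sum, ← mul_sum, mul_assoc]
  have e2 : Nat.mul (Nat.sub (Nat.pow 2 e) 1) (Nat.mul (jj 48 n) (jj (Nat.mul 48 n) n)) =
      ∑ b ∈ range n, (∑ a ∈ range n, (2 ^ e - 1) * (2 ^ 48) ^ a) * (2 ^ (48 * n)) ^ b := by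
    show (2 ^ e - 1) * (jj 48 n * jj (48 * n) n) = _
    rw [jj_eq (by decide), jj_eq (Nat.mul_ne_zero (by decide) hn), ← mul_sum, ← mul_sum, mul_assoc]
  rw [e1, e2, Int.toNat_natCast] at h4
  have h5 := land_dig 48 _ h3 n _ (fun k => h2 k b) (land_dig (48 * n) _ (by rw [pow_mul]; exact sum_lt _ _ (fun _ => h3) n) n _
    (fun k => by rw [pow_mul]; exact sum_lt _ _ (fun a => h2 a k) n) h4 b hb) a ha
  rw [Nat.and_two_pow_sub_one_eq_mod] at h5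
  have h6 : ((2 ^ e : ℕ) : ℤ) ∣ d a b + 2 ^ 40 := h1 a b ▸ Int.natCast_dvd_natCast.2 (Nat.dvd_of_mod_eq_zero h5)
  rw [Nat.cast_pow, Nat.cast_ofNat] at h6
  exact (dvd_add_left (pow_dvd_pow 2 he)).1 h6

private theorem abs_sum {f : ℕ → ℤ} {c : ℤ} (h : ∀ i, |f i| ≤ c) : |∑ i ∈ range 24, f i| ≤ 24 * c :=
  (abs_sum_le_sum_abs _ _).trans ((sum_le_card_nsmul _ _ c fun i _ => h i).trans (by rw [card_range, nsmul_eq_mul]; rfl))

private theorem abs_mul' {a b c d : ℤ} (h : |a| ≤ c) (h' : |b| ≤ d) : |a * b| ≤ c * d :=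
  (abs_mul a b).trans_le (mul_le_mul h h' (abs_nonneg _) ((abs_nonneg _).trans h))

/-- matrix times vector -/
private noncomputable def mv (A : List (List ℤ)) (l : List ℤ) : List ℤ := List.rec [] (fun r _ ih => dk r l 0 0 :: ih) A

private theorem mv_len (l : List ℤ) : ∀ A : List (List ℤ), (mv A l).length = A.length
  | [] => rfl
  | _ :: A => congrArg (· + 1) (mv_len l A)

private theorem mv_get (l : List ℤ) : ∀ (A : List (List ℤ)) (i : ℕ), (mv A l).getD i 0 = dotL (A.getD i []) l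
  | [], _ => rfl
  | r :: _, 0 => dk0 r l
  | _ :: A, i + 1 => mv_get l A i

private theorem mv_sum {A : List (List ℤ)} (h : sh A = true) (l : List ℤ) (i : ℕ) :
    (mv A l).getD i 0 = ∑ j ∈ range 24, en A i j * l.getD j 0 := (mv_get l A i).trans (sum_range_getD _ l 24 (sh_le h i)).symm

/-- powers -/
private def pw (w : ℕ) : List ℤ := (List.range 24).map fun j => Int.ofNat (Nat.pow 2 (Nat.mul w j))

private theorem pw_get (w : ℕ) {j : ℕ} (hj : j ∈ range 24) : (pw w).getD j 0 = (2 ^ w) ^ j := by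
  rw [pw, List.getD_eq_getElem _ _ (by rw [List.length_map, List.length_range]; exact mem_range.1 hj), List.getElem_map,
    List.getElem_range, ← pow_mul]
  exact Nat.cast_pow 2 _

/-- the product of the transpose of `A` and `B` is `c` times the identity -/
private noncomputable def prd (A B : List (List ℤ)) (c : ℤ) : Bool :=
  tst 24 40 (dk (mv A (pw 48)) (mv B (pw 1152)) 0 0 - c * dk (pw 48) (pw 1152) 0 0)

private theorem prd_spec {A B : List (List ℤ)} {c : ℤ} (hA : sh A = true) (hB : sh B = true) (hl : A.length = 24) (hc : |c| ≤ 64)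
    (h : prd A B c = true) {a b : ℕ} (ha : a < 24) (hb : b < 24) : ∑ i ∈ range 24, en A i a * en B i b = if a = b then c else 0 := by
  have h1 : ∀ a b, |∑ i ∈ range 24, en A i a * en B i b - if a = b then c else 0| < 2 ^ 40 := fun a b =>
    lt_of_le_of_lt ((abs_sub _ _).trans (add_le_add (abs_sum fun i => abs_mul' (sh_abs hA i a) (sh_abs hB i b))
      (show _ ≤ 64 by split_ifs; exacts [hc, by decide]))) (by decide)
  refine sub_eq_zero.1 (Int.eq_zero_of_abs_lt_dvd (key (n := 24) (by decide) le_rfl _ h1 ?_ a b ha hb) (h1 a b))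
  rw [← h, prd, dk0, dk0, ← sum_range_getD _ _ 24 ((mv_len _ A).trans hl).le, ← sum_range_getD (pw 48) _ 24 (by decide)]
  congr 1
  simp only [sub_mul, sum_sub_distrib, mv_sum hA, mv_sum hB]
  congr 1
  · simp only [sum_mul, mul_sum]
    rw [sum_comm]
    refine (sum_congr rfl fun a _ => sum_comm).trans (sum_comm.trans (sum_congr rfl fun i _ => sum_comm.trans
      (sum_congr rfl fun b hb => sum_congr rfl fun a ha => ?_)))
    rw [pw_get _ ha, pw_get _ hb]; ring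
  · rw [mul_sum]
    refine sum_congr rfl fun b hb => ?_
    rw [sum_eq_single b (fun a _ h => by rw [if_neg h, zero_mul]) (fun h => absurd hb h), if_pos rfl, pw_get _ hb, pw_get _ hb, mul_assoc]

/-- the rows, packed -/
private noncomputable def pk (X : ℤ) (A : List (List ℤ)) : List ℤ :=
  List.rec (List.replicate 24 0) (fun g _ s => List.zipWith (fun a b => a + X * b) g s) A

private theorem pk_spec (X : ℤ) : ∀ A : List (List ℤ), sh A = true → (pk X A).length = 24 ∧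
    ∀ j < 24, (pk X A).getD j 0 = ∑ a ∈ range A.length, en A a j * X ^ a
  | [], _ => ⟨rfl, show ∀ j < 24, (List.replicate 24 (0 : ℤ)).getD j 0 = 0 by decide⟩
  | g :: A, h => by
    have hg := sh_len h List.mem_cons_self
    obtain ⟨h1, h2⟩ := pk_spec X A (Bool.and_eq_true_iff.1 h).2
    have h3 : (List.zipWith (fun a b => a + X * b) g (pk X A)).length = 24 := by rw [List.length_zipWith, hg, h1]; rfl
    refine ⟨h3, fun j hj => ?_⟩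
    show (List.zipWith (fun a b => a + X * b) g (pk X A)).getD j 0 = _
    rw [List.getD_eq_getElem _ _ (h3 ▸ hj), List.getElem_zipWith, ← List.getD_eq_getElem _ 0, ← List.getD_eq_getElem _ 0, h2 j hj,
      List.length_cons, sum_range_succ', add_comm, pow_zero, mul_one, mul_sum]
    exact congrArg₂ _ (sum_congr rfl fun a _ => by rw [pow_succ', mul_left_comm]; rfl) rfl

private theorem sh_gens : sh gens = true ∧ gens.length = 49 := by decide +kernel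

/-- the packed generators -/
private def cf (w : ℕ) : List ℤ :=
  ((List.range 23).map fun j => Int.ofNat (Nat.add (Nat.add (Nat.pow 2 (Nat.add (Nat.mul w j) 2)) (Nat.shiftLeft (Nat.mod (Nat.shiftLeft
    ([0, 5, 7, 10, 11, 14, 15, 17, 19, 20, 21, 22].foldr (fun t s => Nat.add (Nat.pow 2 (Nat.mul w t)) s) 0) (Nat.mul w j))
    (Nat.sub (Nat.pow 2 (Nat.mul w 23)) 1)) (Nat.succ (Nat.mul w 23))))
    (Nat.add (Nat.pow 2 (Nat.succ (Nat.mul w 47))) (Nat.pow 2 (Nat.mul w 48))))) ++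
  [Int.subNatNat (Nat.add (Nat.pow 2 (Nat.add (Nat.mul w 46) 3)) (Nat.pow 2 (Nat.succ (Nat.mul w 47))))
    (Nat.add (Nat.mul 4 (jj w 23)) (Nat.mul 3 (Nat.pow 2 (Nat.mul w 48))))]

private theorem cf_eq : cf 2352 = pk (Int.ofNat (Nat.pow 2 2352)) gens ∧ cf 48 = pk (Int.ofNat (Nat.pow 2 48)) gens := by decide +kernel

/-- the values of the form on the generators are divisible by 64 -/
private noncomputable def prs (R : List (List ℤ)) : Bool := tst 49 6 (dk (cf 2352) (mv R (cf 48)) 0 0)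

private theorem prs_spec {R : List (List ℤ)} (hR : sh R = true) (h : prs R = true) (a b : ℕ) (ha : a < 49) (hb : b < 49) :
    64 ∣ ∑ i ∈ range 24, en gens b i * ∑ j ∈ range 24, en R i j * en gens a j := by
  refine key (n := 49) (e := 6) (by decide) (by decide) (fun a b => ∑ i ∈ range 24, en gens b i * ∑ j ∈ range 24, en R i j * en gens a j)
    (fun a b => lt_of_le_of_lt (abs_sum fun i => abs_mul' (sh_abs sh_gens.1 b i)
      (abs_sum fun j => abs_mul' (sh_abs hR i j) (sh_abs sh_gens.1 a j))) (by decide)) ?_ a b ha hb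
  have e : ∀ w : ℕ, Int.ofNat (Nat.pow 2 w) = 2 ^ w := fun w => Nat.cast_pow 2 w
  refine (congrArg (tst 49 6) ?_).trans h
  rw [cf_eq.1, cf_eq.2, dk0, ← sum_range_getD _ _ 24 (pk_spec _ _ sh_gens.1).1.le, e, e, show 48 * 49 = 2352 from rfl, sum_congr rfl fun i hi => congrArg₂ _ ((pk_spec _ _ sh_gens.1).2 i (mem_range.1 hi)) ((mv_sum hR _ i).trans
    (sum_congr rfl fun j hj => congrArg _ ((pk_spec _ _ sh_gens.1).2 j (mem_range.1 hj)))), sh_gens.2]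
  simp only [sum_mul, mul_sum]
  refine (sum_congr rfl fun b _ => sum_comm).trans (sum_comm.trans (sum_congr rfl fun i _ => ?_))
  refine (sum_congr rfl fun b _ => sum_comm).trans (sum_comm.trans (sum_congr rfl fun j _ => sum_comm.trans ?_))
  exact sum_congr rfl fun a _ => sum_congr rfl fun b _ => by ring

/-- a basis among the generators -/
private def sel : List ℕ := [0, 2, 4, 5, 9, 12, 13, 15, 16, 21, 22, 23, 24, 27, 29, 36, 38, 39, 40, 42, 43, 44, 46, 48]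

/-- the dual basis -/
private def du : List (List ℤ) := [
  [2, -22, 0, -100, 0, 0, -12, -178, -162, 0, 26, -228, 0, 0, 412, 0, 0, 220, 294, -358, 106, 0, 0, 0],
  [0, -22, 2, -94, 0, 0, -12, -170, -152, 0, 28, -214, 0, 0, 388, 0, 0, 206, 278, -338, 100, 0, 0, 0],
  [0, -22, 0, -90, 2, 0, -10, -164, -148, 0, 26, -206, 0, 0, 374, 0, 0, 198, 268, -324, 96, 0, 0, 0],
  [0, 0, 0, 8, 0, 2, 2, 14, 12, 0, -2, 18, 0, 0, -32, 0, 0, -18, -22, 28, -10, 0, 0, 0],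
  [0, 4, 0, 28, 0, 0, 4, 50, 46, 2, -6, 66, 0, 0, -118, 0, 0, -62, -84, 102, -32, 0, 0, 0],
  [0, -4, 0, -18, 0, 0, -2, -34, -30, 0, 6, -40, 2, 0, 74, 0, 0, 40, 52, -64, 18, 0, 0, 0],
  [0, 6, 0, 30, 0, 0, 4, 56, 50, 0, -8, 72, 0, 2, -130, 0, 0, -70, -92, 114, -34, 0, 0, 0],
  [0, 20, 0, 82, 0, 0, 10, 152, 134, 0, -26, 188, 0, 0, -344, 2, 0, -182, -246, 298, -88, 0, 0, 0],
  [0, -10, 0, -42, 0, 0, -6, -76, -70, 0, 12, -98, 0, 0, 176, 0, 2, 92, 126, -152, 46, 0, 0, 0],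
  [0, -12, 0, -62, 0, 0, -8, -108, -100, 0, 14, -142, 0, 0, 254, 0, 0, 136, 182, -222, 66, 2, 0, 0],
  [0, 6, 0, 28, 0, 0, 2, 50, 44, 0, -8, 62, 0, 0, -114, 0, 0, -60, -80, 98, -30, 0, 2, 0],
  [0, 16, 0, 64, 0, 0, 8, 116, 104, 0, -20, 144, 0, 0, -264, 0, 0, -140, -188, 228, -68, 0, 0, 0],
  [0, 4, 0, 8, 0, 0, 0, 16, 12, 0, -4, 16, 0, 0, -32, 0, 0, -16, -24, 28, -8, 0, 0, 0],
  [0, 0, 0, -4, 0, 0, 0, -4, -4, 0, 0, -8, 0, 0, 12, 0, 0, 8, 8, -12, 4, 0, 0, 0],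
  [0, -16, 0, -72, 0, 0, -8, -128, -116, 0, 20, -164, 0, 0, 296, 0, 0, 156, 212, -256, 76, 0, 0, 0],
  [0, -4, 0, -12, 0, 0, 0, -24, -20, 0, 4, -28, 0, 0, 52, 0, 0, 28, 36, -44, 12, 0, 0, 0],
  [0, 8, 0, 36, 0, 0, 4, 64, 60, 0, -8, 84, 0, 0, -152, 0, 0, -80, -108, 132, -40, 0, 0, 0],
  [0, 0, 0, -8, 0, 0, 0, -12, -12, 0, 0, -16, 0, 0, 28, 0, 0, 16, 20, -24, 8, 0, 0, 0],
  [0, 12, 0, 60, 0, 0, 8, 108, 96, 0, -16, 136, 0, 0, -248, 0, 0, -132, -176, 216, -64, 0, 0, 0],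
  [0, 16, 0, 68, 0, 0, 8, 124, 112, 0, -20, 156, 0, 0, -284, 0, 0, -152, -204, 248, -72, 0, 0, 0],
  [0, -8, 0, -36, 0, 0, -4, -68, -60, 0, 12, -84, 0, 0, 152, 0, 0, 80, 108, -132, 40, 0, 0, 0],
  [0, 20, 0, 88, 0, 0, 12, 160, 144, 0, -24, 204, 0, 0, -368, 0, 0, -196, -264, 320, -96, 0, 0, 0],
  [1, -43, 1, -175, 1, 1, -23, -315, -287, 1, 49, -399, 1, 1, 725, 1, 1, 385, 521, -631, 185, 1, 1, 1],
  [0, -40, 0, -160, 0, 0, -24, -296, -264, 0, 48, -368, 0, 0, 680, 0, 0, 360, 488, -592, 176, 0, 0, 0]]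

private theorem du_ok : (sh du = true ∧ du.length = 24 ∧ du.all leechB = true) ∧ sh (sel.map fun a => gens.getD a []) = true ∧
    prd du (sel.map fun a => gens.getD a []) 8 = true ∧ ∀ s < 24, sel.getD s 0 < 49 ∧ (sel.map fun a => gens.getD a []).getD s [] =
      gens.getD (sel.getD s 0) [] := by decide +kernel

private theorem maskL_lt : ∀ l : List ℤ, maskL l < 2 ^ l.length
  | [] => Nat.one_pos
  | a :: t => by
    have := maskL_lt t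
    show (a % 2).toNat + 2 * maskL t < 2 ^ (t.length + 1)
    omega

private theorem leechB_of {l : List ℤ} (hl : l.length = 24) (h : vec l ∈ leechLattice) : leechB l = true := by
  obtain ⟨m, z, h1, h2, h3⟩ := (LeechSet.mem_leechLattice_iff' _).1 h
  have h0 : l.headD 0 = m + 2 * z (GolayBase.pt 0) := by
    rw [← h1, vec_apply, GolayBase.idx_pt (by decide)]; cases l <;> rfl
  have h4 : ∀ i (hi : i < l.length), l[i] = m + 2 * z (GolayBase.pt i) := fun i hi => by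
    rw [← h1, vec_apply, GolayBase.idx_pt (hl ▸ hi), List.getD_eq_getElem _ _ hi]
  rw [sum_vec l hl.le] at h2
  have h5 := (GolayBase.mem_golayCode_iff _).1 (golayCode.add_mem h3 (golayCode.smul_mem ((m / 2 : ℤ) : ZMod 2) LeechSet.one_mem_golayCode))
  simp only [leechB, Bool.and_eq_true, List.all_eq_true, decide_eq_true_eq]
  refine ⟨⟨⟨hl ▸ Nat.beq_refl _, fun a ha => ?_⟩, by have : l.sum % 8 = 4 * m % 8 := h2; omega⟩, ?_⟩
  · obtain ⟨i, hi, rfl⟩ := List.getElem_of_mem ha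
    have := h4 i hi
    omega
  · convert h5 using 2
    refine GolayBase.eq_of_testBit_idx (by have := maskL_lt (l.map fun a => (a - l.headD 0 % 2) / 2); rwa [List.length_map, hl] at this)
      (GolayBase.maskW_lt _) fun p => ?_
    have hp : GolayBase.idx p < l.length := hl ▸ GolayBase.idx_lt p
    rw [testBit_maskL, GolayBase.testBit_maskW, List.getD_eq_getElem _ _ (by rwa [List.length_map]), List.getElem_map, h4 _ hp,
      GolayBase.pt_idx, decide_eq_decide, Pi.add_apply, Pi.smul_apply, Pi.one_apply, smul_eq_mul, mul_one, ← Int.cast_add, Ne,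
      ZMod.intCast_zmod_eq_zero_iff_dvd, Nat.cast_ofNat]
    omega

private theorem pres_of {A : List (List ℤ)} (hl : A.length = 24)
    (h : ∀ a b, a < 49 → b < 49 → 64 ∣ ∑ i ∈ range 24, en gens b i * ∑ j ∈ range 24, en A i j * en gens a j) : presB A = true := by
  obtain ⟨⟨d1, d2, d3⟩, d4, d5, d6⟩ := du_ok
  refine List.all_eq_true.2 fun g hg => ?_
  obtain ⟨a, ha, rfl⟩ := List.getElem_of_mem hg
  rw [← List.getD_eq_getElem _ [] ha]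
  have e1 : ∀ i, dotL (gens.getD a []) (A.getD i []) = ∑ j ∈ range 24, en A i j * en gens a j := fun i =>
    (sum_range_getD _ _ 24 (sh_le sh_gens.1 a)).symm.trans (sum_congr rfl fun j _ => mul_comm _ _)
  have h1 : ∀ s, ∃ c : ℤ, s < 24 → ∑ i ∈ range 24, en (sel.map fun a => gens.getD a []) s i * dotL (gens.getD a []) (A.getD i []) = 64 * c :=
    fun s => by
      by_cases hs : s < 24
      · obtain ⟨c, hc⟩ := h a _ (sh_gens.2 ▸ ha) (d6 s hs).1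
        exact ⟨c, fun _ => by simp only [e1]; rw [← hc]; unfold en; rw [(d6 s hs).2]⟩
      · exact ⟨0, fun h => absurd h hs⟩
  choose c hc using h1
  have h2 : ∀ i < 24, dotL (gens.getD a []) (A.getD i []) = 8 * ∑ s ∈ range 24, c s * en du s i := fun i hi => by
    refine mul_left_cancel₀ (show (8 : ℤ) ≠ 0 by decide) ?_
    have e2 : ∑ j ∈ range 24, (∑ s ∈ range 24, en du s i * en (sel.map fun a => gens.getD a []) s j) * dotL (gens.getD a []) (A.getD j []) =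
        8 * dotL (gens.getD a []) (A.getD i []) := by
      rw [sum_eq_single i (fun j hj h => by rw [prd_spec d1 d4 d2 (by decide) d5 hi (mem_range.1 hj), if_neg h.symm, zero_mul])
        (fun h => absurd (mem_range.2 hi) h), prd_spec d1 d4 d2 (by decide) d5 hi hi, if_pos rfl]
    rw [← e2]
    simp only [sum_mul, mul_sum, mul_assoc]
    rw [sum_comm]
    exact sum_congr rfl fun s hs => by rw [← mul_sum, hc s (mem_range.1 hs)]; ring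
  refine Bool.and_eq_true_iff.2 ⟨List.all_eq_true.2 fun r hr => decide_eq_true ?_, leechB_of (by rw [List.length_map, hl]) ?_⟩
  · obtain ⟨i, hi, rfl⟩ := List.getElem_of_mem hr
    rw [← List.getD_eq_getElem _ [] hi, h2 i (hl ▸ hi)]
    exact Int.mul_emod_right _ _
  · have e3 : vec (A.map fun r => dotL (gens.getD a []) r / 8) = ∑ s ∈ range 24, c s • vec (du.getD s []) := funext fun p => by
      have hp : GolayBase.idx p < A.length := hl ▸ GolayBase.idx_lt p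
      rw [vec_apply, List.getD_eq_getElem _ _ (by rwa [List.length_map]), List.getElem_map, ← List.getD_eq_getElem _ [] hp,
        h2 _ (GolayBase.idx_lt p), Int.mul_ediv_cancel_left _ (by decide), Finset.sum_apply]
      rfl
    rw [e3]
    exact sum_mem fun s hs => leechLattice.zsmul_mem
      (vec_mem_of_leechB (List.all_eq_true.1 d3 _ (getD_mem_of_lt _ [] (d2 ▸ mem_range.1 hs)))) _

/-- all checks -/
private noncomputable def okq (R C : List (List ℤ)) : Bool :=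
  Nat.beq R.length 24 && Nat.beq C.length 24 && sh R && sh C && trZ R C && prd R R 64 && prd C C 64 && prs R

private theorem ok_of {R C : List (List ℤ)} (h : okq R C = true) : Ok R C := by
  simp only [okq, Bool.and_eq_true] at h
  obtain ⟨⟨⟨⟨⟨⟨⟨h1, h2⟩, h3⟩, h4⟩, h5⟩, h6⟩, h7⟩, h8⟩ := h
  have hR := Nat.eq_of_beq_eq_true h1
  have hC := Nat.eq_of_beq_eq_true h2
  have ht : ∀ i < 24, ∀ j < 24, en R i j = en C j i := fun i hi j hj => trZ_spec h5 i j (hR ▸ hi) (hC ▸ hj)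
  have ble : ∀ {M : List (List ℤ)}, sh M = true → (M.all fun r => Nat.ble r.length 24) = true := fun hM =>
    List.all_eq_true.2 fun r hr => Nat.ble_eq_true_of_le (sh_len hM hr).le
  have orth : ∀ {A B : List (List ℤ)}, sh A = true → sh B = true → A.length = 24 → (∀ i < 24, ∀ j < 24, en A i j = en B j i) →
      prd A A 64 = true → orthB B = true := fun {A B} hA hB hl ht hp =>
    List.all_eq_true.2 fun i hi => List.all_eq_true.2 fun j hj => decide_eq_true (by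
      rw [← prd_spec hA hA hl (by decide) hp (List.mem_range.1 hi) (List.mem_range.1 hj), ← sum_range_getD _ _ 24 (sh_le hB i)]
      exact sum_congr rfl fun k hk => (congrArg₂ _ (ht k (mem_range.1 hk) i (List.mem_range.1 hi))
        (ht k (mem_range.1 hk) j (List.mem_range.1 hj))).symm)
  refine ⟨hR, hC, ble h3, ble h4, List.all_eq_true.2 fun i hi => List.all_eq_true.2 fun j hj =>
    decide_eq_true (ht i (List.mem_range.1 hi) j (List.mem_range.1 hj)), orth h4 h3 hC (fun i hi j hj => (ht j hj i hi).symm) h7,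
    orth h3 h4 hR ht h6, pres_of hR (prs_spec h3 h8), pres_of hC fun a b ha hb => ?_⟩
  convert prs_spec h3 h8 b a hb ha using 1
  simp only [mul_sum]
  rw [sum_comm]
  exact sum_congr rfl fun i hi => sum_congr rfl fun j hj => by rw [ht i (mem_range.1 hi) j (mem_range.1 hj)]; ring

section
open Cfsg.Agent.CoOneType.CoEval (ap length_ap)
open Cfsg.Agent.LThreeMB.Fix (addL mulL res halfB latB getD_addL length_addL vec_addL lat_spec length_of_leechB tri)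

private def tn (R : List (List ℤ)) : ℕ → List ℤ → List ℤ
  | 0, _ => []
  | n + 1, l => addL l (tn R n (ap R l))

private theorem getD_mulL (c : ℤ) (l : List ℤ) (j : ℕ) : (mulL c l).getD j 0 = c * l.getD j 0 := by
  have : (l.map fun a => c * a).getD j (c * 0) = c * l.getD j 0 := List.getD_map (f := fun a => c * a) ..
  rwa [mul_zero] at this

private theorem dcomm {r l : List ℤ} (hr : r.length ≤ 24) (hl : l.length ≤ 24) : dotL r l = dotL l r := by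
  rw [← dotInt_vec _ _ hr, dotInt_comm, dotInt_vec _ _ hl]

private def Lt (l : List ℤ) : Prop := l.length = 24 ∧ vec l ∈ leechLattice

private def Bd (c : ℤ) (l : List ℤ) : Prop := ∀ j, |l.getD j 0| ≤ c

private def Pq (s : ℤ) (F : ℕ → List ℤ) (G : List ℤ) : Prop :=
  ∀ j < 24, G.getD j 0 = s * ∑ a ∈ range 49, (F a).getD j 0 * (2 ^ 256) ^ a

private theorem ap_get {R : List (List ℤ)} (l : List ℤ) {j : ℕ} (hj : j < R.length) :
    (ap R l).getD j 0 = dotL l (R.getD j []) / 8 := by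
  show (R.map fun r => dotL l r / 8).getD j 0 = _
  rw [List.getD_eq_getElem _ _ (by rwa [List.length_map]), List.getElem_map, List.getD_eq_getElem _ _ hj]

private theorem lt_ap {R : List (List ℤ)} (hl : R.length = 24) (hp : presB R = true) {l : List ℤ} (h : Lt l) :
    Lt (ap R l) ∧ ∀ j < 24, 8 ∣ dotL l (R.getD j []) := by
  obtain ⟨h1, h2⟩ := act_mem hl hp _ h.2
  refine ⟨⟨length_ap hl l, (act_vec hl h.1.le) ▸ h2⟩, fun j hj => ?_⟩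
  have h3 : (8 : ℤ) ∣ dotInt (vec l) (vec (R.getD (GolayBase.idx (GolayBase.pt j)) [])) := h1 _
  rwa [GolayBase.idx_pt hj, dotInt_vec _ _ h.1.le] at h3

private theorem lt_tn {R : List (List ℤ)} (hl : R.length = 24) (hp : presB R = true) : ∀ (n : ℕ) {l : List ℤ}, Lt l →
    (tn R n l).length ≤ 24 ∧ vec (tn R n l) ∈ leechLattice
  | 0, _, _ => ⟨Nat.zero_le _, (show (0 : GolayPt → ℤ) = vec [] from funext fun _ => rfl) ▸ leechLattice.zero_mem⟩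
  | n + 1, l, h => by
    obtain ⟨h1, h2⟩ := lt_tn hl hp n (lt_ap hl hp h).1
    show (addL l (tn R n (ap R l))).length ≤ 24 ∧ vec (addL l (tn R n (ap R l))) ∈ leechLattice
    rw [length_addL, vec_addL]
    exact ⟨max_le h.1.le h1, leechLattice.add_mem h.2 h2⟩

private theorem bd_dot {c : ℤ} {l r : List ℤ} (hr : r.length ≤ 24) (h : Bd c l) (h' : Bd 1000 r) : |dotL r l| ≤ 24000 * c := by
  rw [← sum_range_getD _ _ 24 hr]
  exact (abs_sum fun i => abs_mul' (h' i) (h i)).trans_eq (by ring)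

private theorem abs_div {x c : ℤ} (h : |x| ≤ c) : |x / 8| ≤ c := by
  rw [abs_le] at h ⊢
  omega

private theorem bd_tn {R : List (List ℤ)} (hR : sh R = true) (hl : R.length = 24) : ∀ (n : ℕ) {c : ℤ} {l : List ℤ},
    l.length = 24 → Bd c l → Bd (32768 ^ n * c) (tn R n l)
  | 0, c, _, _, h => fun j => (show |(0 : ℤ)| ≤ c from abs_zero.trans_le ((abs_nonneg _).trans (h 0))).trans_eq (by ring)
  | n + 1, c, l, h1, h => fun j => by
    have hc : 0 ≤ c := (abs_nonneg _).trans (h 0)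
    have h2 : Bd (24000 * c) (ap R l) := fun i => by
      by_cases hi : i < R.length
      · rw [ap_get l hi, dcomm h1.le (sh_le hR i)]
        exact abs_div (bd_dot (sh_le hR i) h (sh_abs hR i))
      · rw [List.getD_eq_default _ _ (by rw [length_ap hl, ← hl]; exact not_lt.1 hi), abs_zero]
        exact mul_nonneg (by decide) hc
    have h3 := bd_tn hR hl n (length_ap hl l) h2 j
    have h4 : (1 : ℤ) * c ≤ 32768 ^ n * c := mul_le_mul_of_nonneg_right (one_le_pow₀ (by decide)) hc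
    show |(addL l (tn R n (ap R l))).getD j 0| ≤ _
    rw [getD_addL, pow_succ]
    refine (abs_add_le _ _).trans ?_
    linarith only [h j, h3, h4, hc]

private theorem bd_res {c : ℤ} {l : List ℤ} (hl : l.length = 24) (h : Bd c l) : ∀ vw : List (List ℤ × List ℤ),
    sh (vw.map Prod.fst) = true → sh (vw.map Prod.snd) = true →
    (res l vw).length = 24 ∧ Bd ((1 + vw.length * 24000000) * c) (res l vw)
  | [], _, _ => ⟨hl, fun j => (h j).trans_eq (by simp)⟩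
  | p :: t, h1, h2 => by
    obtain ⟨h3, h4⟩ := bd_res hl h t (Bool.and_eq_true_iff.1 h1).2 (Bool.and_eq_true_iff.1 h2).2
    have h5 : p.1.length = 24 := sh_len h1 List.mem_cons_self
    have h6 : p.2.length = 24 := sh_len h2 List.mem_cons_self
    refine ⟨?_, fun j => ?_⟩
    · show (addL (p.1.map _) (res l t)).length = 24
      rw [length_addL, List.length_map, h5, h3, max_self]
    · show |(addL (mulL (-(dotL l p.2 / 8)) p.1) (res l t)).getD j 0| ≤ _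
      have h7 : |-(dotL l p.2 / 8)| ≤ 24000 * c := by
        rw [abs_neg, dcomm hl.le h6.le]
        exact abs_div (bd_dot h6.le h (sh_abs h2 0))
      have h8 := abs_mul' h7 (show |p.1.getD j 0| ≤ 1000 from sh_abs h1 0 j)
      rw [getD_addL, getD_mulL, List.length_cons, Nat.cast_succ]
      refine (abs_add_le _ _).trans ?_
      linarith only [h8, h4 j]

private theorem dot_pq {s : ℤ} {F : ℕ → List ℤ} {G : List ℤ} (h : Pq s F G) {r : List ℤ} (hr : r.length ≤ 24) :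
    dotL r G = s * ∑ a ∈ range 49, dotL r (F a) * (2 ^ 256) ^ a := by
  rw [← sum_range_getD _ _ 24 hr, sum_congr rfl fun j hj => congrArg _ (h j (mem_range.1 hj))]
  simp only [← sum_range_getD r _ 24 hr, sum_mul, mul_sum]
  rw [sum_comm]
  exact sum_congr rfl fun a _ => sum_congr rfl fun j _ => by ring

private noncomputable def lq (R : List (List ℤ)) (n : ℕ) : List ℤ → List ℤ → List ℤ :=
  Nat.rec (fun _ A => A) (fun _ ih G A => ih (mv R G) (mulL 8 (addL A G))) n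

private theorem lq_spec {R : List (List ℤ)} (hR : sh R = true) (hl : R.length = 24) (hp : presB R = true) :
    ∀ (n : ℕ) {s : ℤ} {F : ℕ → List ℤ} {G : List ℤ} (A : List ℤ), (∀ a < 49, Lt (F a)) → Pq s F G → ∀ j < 24,
      (lq R n G A).getD j 0 = 8 ^ n * (A.getD j 0 + s * ∑ a ∈ range 49, (tn R n (F a)).getD j 0 * (2 ^ 256) ^ a)
  | 0, s, F, G, A, _, _, j, _ => by
    show A.getD j 0 = 8 ^ 0 * (A.getD j 0 + s * ∑ a ∈ range 49, (0 : ℤ) * (2 ^ 256) ^ a)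
    simp only [zero_mul, sum_const_zero, mul_zero, add_zero, pow_zero, one_mul]
  | n + 1, s, F, G, A, hF, hG, j, hj => by
    have h1 : Pq (8 * s) (fun a => ap R (F a)) (mv R G) := fun i hi => by
      rw [mv_get, dot_pq hG (sh_le hR i), mul_comm 8 s, mul_assoc, mul_sum _ _ 8]
      refine congrArg _ (sum_congr rfl fun a ha => ?_)
      rw [ap_get _ (hl ▸ hi), ← mul_assoc, Int.mul_ediv_cancel' ((lt_ap hl hp (hF a (mem_range.1 ha))).2 i hi),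
        dcomm (sh_le hR i) (hF a (mem_range.1 ha)).1.le]
    refine (lq_spec hR hl hp n (mulL 8 (addL A G)) (fun a ha => (lt_ap hl hp (hF a ha)).1) h1 j hj).trans ?_
    show _ = _ * (_ + s * ∑ a ∈ range 49, (addL (F a) (tn R n (ap R (F a)))).getD j 0 * (2 ^ 256) ^ a)
    simp only [getD_mulL, getD_addL, add_mul, sum_add_distrib, hG j hj]
    ring

private noncomputable def rq (T : List ℤ) (vw : List (List ℤ × List ℤ)) : List ℤ :=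
  List.rec (mulL 8 T) (fun p _ ih => addL (mulL (-dk p.2 T 0 0) p.1) ih) vw

private theorem rq_spec {s : ℤ} {F : ℕ → List ℤ} {T : List ℤ} (hF : ∀ a < 49, Lt (F a)) (hT : Pq s F T) :
    ∀ vw : List (List ℤ × List ℤ), latB vw = true → Pq (8 * s) (fun a => res (F a) vw) (rq T vw)
  | [], _ => fun j hj => (getD_mulL 8 T j).trans (by rw [hT j hj, mul_assoc]; rfl)
  | p :: t, h => fun j hj => by
    have h1 := (lat_spec h List.mem_cons_self).2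
    have h2 := (length_of_leechB h1).le
    show (addL (mulL (-dk p.2 T 0 0) p.1) (rq T t)).getD j 0 =
      _ * ∑ a ∈ range 49, (addL (mulL (-(dotL (F a) p.2 / 8)) p.1) (res (F a) t)).getD j 0 * (2 ^ 256) ^ a
    have h3 : ∀ a ∈ range 49, dotL p.2 (F a) * (2 ^ 256) ^ a = 8 * (dotL (F a) p.2 / 8 * (2 ^ 256) ^ a) := fun a ha => by
      have h4 := Cfsg.Agent.MonsterU.Lam2.dvd_dot ⟨_, (hF a (mem_range.1 ha)).2⟩ ⟨_, vec_mem_of_leechB h1⟩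
      rw [dotInt_vec _ _ (hF a (mem_range.1 ha)).1.le] at h4
      rw [← mul_assoc, Int.mul_ediv_cancel' h4, dcomm h2 (hF a (mem_range.1 ha)).1.le]
    rw [getD_addL, getD_mulL, dk0, dot_pq hT h2, sum_congr rfl h3, ← mul_sum, rq_spec hF hT t (Bool.and_eq_true_iff.1 h).2 j hj]
    simp only [getD_mulL, getD_addL, add_mul, sum_add_distrib, neg_mul, sum_neg_distrib, mul_right_comm _ (p.1.getD j 0),
      ← sum_mul]
    ring

private def ts1 (n : ℕ) (N : ℤ) : Bool :=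
  Nat.beq (Nat.land (N + Int.ofNat (Nat.mul (Nat.pow 2 255) (jj 256 n))).toNat (Nat.mul 15 (jj 256 n))) 0

private theorem key1 {n : ℕ} (d : ℕ → ℤ) (hd : ∀ a, |d a| < 2 ^ 255) (h : ts1 n (∑ a ∈ range n, d a * (2 ^ 256) ^ a) = true) (a : ℕ)
    (ha : a < n) : 16 ∣ d a := by
  have h1 : ∀ a, (((d a + 2 ^ 255).toNat : ℕ) : ℤ) = d a + 2 ^ 255 := fun a =>
    Int.toNat_of_nonneg (by linarith only [(abs_lt.1 (hd a)).1])
  have h2 : ∀ a, (d a + 2 ^ 255).toNat < 2 ^ 256 := fun a => by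
    have := (abs_lt.1 (hd a)).2
    have := h1 a
    omega
  have h4 := Nat.eq_of_beq_eq_true h
  have e1 : (∑ a ∈ range n, d a * (2 ^ 256) ^ a) + Int.ofNat (Nat.mul (Nat.pow 2 255) (jj 256 n)) =
      ((∑ a ∈ range n, (d a + 2 ^ 255).toNat * (2 ^ 256) ^ a : ℕ) : ℤ) := by
    show _ + ((2 ^ 255 * jj 256 n : ℕ) : ℤ) = _
    rw [jj_eq (by decide)]
    simp only [Nat.cast_sum, Nat.cast_mul, Nat.cast_pow, Nat.cast_ofNat, h1, add_mul, sum_add_distrib]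
    rw [← mul_sum]
  have e2 : Nat.mul 15 (jj 256 n) = ∑ a ∈ range n, 15 * (2 ^ 256) ^ a := by
    show 15 * jj 256 n = _
    rw [jj_eq (by decide), ← mul_sum]
  rw [e1, e2, Int.toNat_natCast] at h4
  have h5 : (d a + 2 ^ 255).toNat &&& (2 ^ 4 - 1) = 0 := land_dig 256 15 (by decide) n _ h2 h4 a ha
  rw [Nat.and_two_pow_sub_one_eq_mod] at h5
  have := h1 a
  omega

private theorem half_of {l : List ℤ} (hl : l.length = 24)
    (h : ∀ s < 24, 16 ∣ dotL ((sel.map fun a => gens.getD a []).getD s []) l) : halfB l = true := by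
  obtain ⟨⟨d1, d2, d3⟩, d4, d5, -⟩ := du_ok
  have h1 : ∀ s, ∃ c : ℤ, s < 24 → ∑ i ∈ range 24, en (sel.map fun a => gens.getD a []) s i * l.getD i 0 = 16 * c := fun s => by
    by_cases hs : s < 24
    · obtain ⟨c, hc⟩ := h s hs
      exact ⟨c, fun _ => (sum_range_getD _ _ 24 (sh_le d4 s)).trans hc⟩
    · exact ⟨0, fun h => absurd h hs⟩
  choose c hc using h1
  have h2 : ∀ i < 24, l.getD i 0 = 2 * ∑ s ∈ range 24, c s * en du s i := fun i hi => by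
    refine mul_left_cancel₀ (show (8 : ℤ) ≠ 0 by decide) ?_
    have e2 : ∑ j ∈ range 24, (∑ s ∈ range 24, en du s i * en (sel.map fun a => gens.getD a []) s j) * l.getD j 0 = 8 * l.getD i 0 := by
      rw [sum_eq_single i (fun j hj h => by rw [prd_spec d1 d4 d2 (by decide) d5 hi (mem_range.1 hj), if_neg h.symm, zero_mul])
        (fun h => absurd (mem_range.2 hi) h), prd_spec d1 d4 d2 (by decide) d5 hi hi, if_pos rfl]
    rw [← e2]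
    simp only [sum_mul, mul_sum, mul_assoc]
    rw [sum_comm]
    exact sum_congr rfl fun s hs => by rw [← mul_sum, hc s (mem_range.1 hs)]; ring
  refine Bool.and_eq_true_iff.2 ⟨List.all_eq_true.2 fun r hr => decide_eq_true ?_, leechB_of (by rw [List.length_map, hl]) ?_⟩
  · obtain ⟨i, hi, rfl⟩ := List.getElem_of_mem hr
    rw [← List.getD_eq_getElem _ 0 hi, h2 i (hl ▸ hi)]
    exact Int.mul_emod_right _ _
  · have e3 : vec (l.map fun a => a / 2) = ∑ s ∈ range 24, c s • vec (du.getD s []) := funext fun p => by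
      have hp : GolayBase.idx p < l.length := hl ▸ GolayBase.idx_lt p
      rw [vec_apply, List.getD_eq_getElem _ _ (by rwa [List.length_map]), List.getElem_map, ← List.getD_eq_getElem _ 0 hp,
        h2 _ (GolayBase.idx_lt p), Int.mul_ediv_cancel_left _ (by decide), Finset.sum_apply]
      rfl
    rw [e3]
    exact sum_mem fun s hs => leechLattice.zsmul_mem
      (vec_mem_of_leechB (List.all_eq_true.1 d3 _ (getD_mem_of_lt _ [] (d2 ▸ mem_range.1 hs)))) _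

/-- the check for `1 + R + .. + R ^ n` -/
private noncomputable def spq (n : ℕ) (R : List (List ℤ)) (vw : List (List ℤ × List ℤ)) : Bool :=
  Nat.beq R.length 24 && sh R && prs R && Nat.ble n 11 && Nat.ble vw.length 24 && sh (vw.map Prod.fst) && sh (vw.map Prod.snd) &&
    latB vw && (mv (sel.map fun a => gens.getD a []) (rq (lq R (Nat.succ n) (pk (Int.ofNat (Nat.pow 2 256)) gens) []) vw)).all
      fun N => ts1 49 (N / Int.ofNat (Nat.pow 8 (Nat.add n 2)))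

private theorem spq_spec {n : ℕ} {R : List (List ℤ)} {vw : List (List ℤ × List ℤ)} (h : spq n R vw = true) :
    (gens.all fun g => halfB (res (tn R (n + 1) g) vw)) = true := by
  simp only [spq, Bool.and_eq_true] at h
  obtain ⟨⟨⟨⟨⟨⟨⟨⟨h1, hR⟩, h3⟩, h4⟩, h5⟩, h6⟩, h7⟩, h8⟩, h9⟩ := h
  have hl := Nat.eq_of_beq_eq_true h1
  have hp := pres_of hl (prs_spec hR h3)
  have d4 := du_ok.2.1
  have hg : ∀ a < 49, Lt (gens.getD a []) := fun a ha =>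
    have hm := getD_mem_of_lt gens [] (sh_gens.2 ▸ ha)
    ⟨sh_len sh_gens.1 hm, vec_mem_of_leechB (List.all_eq_true.1 gens_leech _ hm)⟩
  have ht : ∀ a < 49, Lt (tn R (n + 1) (gens.getD a [])) := fun a ha => by
    refine ⟨?_, (lt_tn hl hp _ (hg a ha)).2⟩
    show (addL _ _).length = 24
    rw [length_addL, (hg a ha).1]
    exact max_eq_left (lt_tn hl hp n (lt_ap hl hp (hg a ha)).1).1
  have p0 : Pq 1 (fun a => gens.getD a []) (pk (Int.ofNat (Nat.pow 2 256)) gens) := fun j hj => by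
    rw [(pk_spec _ _ sh_gens.1).2 j hj, sh_gens.2, one_mul, show Int.ofNat (Nat.pow 2 256) = 2 ^ 256 from Nat.cast_pow 2 256]
    rfl
  have p1 : Pq (8 ^ (n + 1)) (fun a => tn R (n + 1) (gens.getD a [])) (lq R (n + 1) (pk (Int.ofNat (Nat.pow 2 256)) gens) []) :=
    fun j hj => by rw [lq_spec hR hl hp _ [] hg p0 j hj, List.getD_nil, zero_add, one_mul]
  have p2 := rq_spec ht p1 vw h8
  have hb : ∀ a < 49, (res (tn R (n + 1) (gens.getD a [])) vw).length = 24 ∧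
      Bd (2 ^ 230) (res (tn R (n + 1) (gens.getD a [])) vw) := fun a ha => by
    obtain ⟨b1, b2⟩ := bd_res (ht a ha).1 (bd_tn hR hl (n + 1) (hg a ha).1 (sh_abs sh_gens.1 a)) vw h6 h7
    refine ⟨b1, fun j => (b2 j).trans ?_⟩
    have b3 : (32768 : ℤ) ^ (n + 1) ≤ 32768 ^ 12 := pow_le_pow_right₀ (by decide) (Nat.succ_le_succ (Nat.le_of_ble_eq_true h4))
    have b4 : (vw.length : ℤ) ≤ 24 := Int.ofNat_le.2 (Nat.le_of_ble_eq_true h5)
    exact (mul_le_mul (show _ ≤ (1 + 24 * 24000000 : ℤ) by linarith only [b4]) (mul_le_mul_of_nonneg_right b3 (by decide))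
      (mul_nonneg (pow_nonneg (by decide) _) (by decide)) (by decide)).trans (by decide)
  refine List.all_eq_true.2 fun g hg' => ?_
  obtain ⟨a, ha, rfl⟩ := List.getElem_of_mem hg'
  rw [← List.getD_eq_getElem _ [] ha]
  rw [sh_gens.2] at ha
  refine half_of (hb a ha).1 fun s hs => ?_
  have k1 := List.all_eq_true.1 h9 _ (getD_mem_of_lt _ 0 (show s < _ by rw [mv_len, List.length_map]; exact hs))
  rw [mv_get, dot_pq p2 (sh_le d4 s), show Int.ofNat (Nat.pow 8 (Nat.add n 2)) = 8 * 8 ^ (n + 1) from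
    (Nat.cast_pow 8 (n + 2)).trans (pow_succ' _ _), Int.mul_ediv_cancel_left _ (by positivity)] at k1
  have k2 := key1 (fun a => if a < 49 then dotL ((sel.map fun a => gens.getD a []).getD s [])
    (res (tn R (n + 1) (gens.getD a [])) vw) else 0) (fun a => by
      split_ifs with ha
      · exact lt_of_le_of_lt (bd_dot (sh_le d4 s) (hb a ha).2 (sh_abs d4 s)) (by decide)
      · decide) (by rw [sum_congr rfl fun a ha => by rw [if_pos (mem_range.1 ha)]]; exact k1) a ha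
  rwa [if_pos ha] at k2

private theorem spanN {n : ℕ} {R : List (List ℤ)} {vw : List (List ℤ × List ℤ)} (h : spq n R vw = true) :
    Cfsg.Agent.MFive.FixN.spanB (n + 1) R vw = true := by
  have e : ∀ (k : ℕ) (l : List ℤ), Cfsg.Agent.MFive.FixN.trn R k l = tn R k l := fun k => by
    induction k with
    | zero => exact fun _ => rfl
    | succ k ih => exact fun l => congrArg (addL l) (ih _)
  exact (congrArg (fun f => gens.all f) (funext fun g => congrArg (fun x => halfB (res x vw)) (e _ g))).trans (spq_spec h)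
end

end Cfsg.Agent.Co0Q_H800_ME_Data

/-!
# Explicit elements of `Co0` in the normalizer of an element of order eleven

`e 0` has order 3 and no fixed points, `e 1` is a change of signs, `e 2` (a permutation of coordinates) has order 11 and
fixed rank 4, `e 3` (a permutation) has order 5 and fixed rank 8, `e 4` (a permutation) inverts `e 2`; `e 0`, `e 1`
commute with `e 2` and `e 3`; `e 3 * e 2 * (e 3)⁻¹ = (e 2) ^ 3`.
The lists are generated by a script and checked by the kernel.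
-/

set_option autoImplicit false
set_option maxRecDepth 100000

namespace Cfsg.Agent.H800.ME.Data

open Cfsg Cfsg.Agent.SporadicA Cfsg.Agent.SporadicStructure.Co0Matrix Cfsg.Agent.CoOneType.CoEval
open Cfsg.Agent.LThreeCo1.Ev Cfsg.Agent.MonsterU.Lam2 Cfsg.Agent.LThreeMB.Fix
open Cfsg.Agent.LThreeMB (fr)
open Cfsg.Spor (Co1)

/-- matrix (times 8) -/
def rA : List (List ℤ) := [
  [-4, 0, 0, 0, 0, 2, 0, 2, 0, 0, 2, 2, 0, 0, 2, 2, 0, 2, 0, 2, 2, 2, 2, -2],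
  [0, -4, 0, 0, 0, 2, 0, -2, 0, 0, -2, -2, 0, 0, 2, 2, 0, -2, 0, 2, 2, 2, -2, 2],
  [0, 0, -4, 0, 0, 2, 0, 2, 0, 0, 2, -2, 0, 0, -2, 2, 0, 2, 0, 2, -2, -2, -2, 2],
  [0, 0, 0, -4, 0, -2, 0, -2, 0, 0, -2, 2, 0, 0, 2, 2, 0, 2, 0, 2, -2, -2, 2, 2],
  [0, 0, 0, 0, -4, -2, 0, 2, 0, 0, 2, 2, 0, 0, 2, 2, 0, -2, 0, -2, 2, -2, -2, 2],
  [-2, -2, -2, 2, 2, -4, -2, 0, -2, -2, 0, 0, 2, 2, 0, 0, -2, 0, 2, 0, 0, 0, 0, 0],
  [0, 0, 0, 0, 0, 2, -4, 2, 0, 0, -2, 2, 0, 0, -2, 2, 0, -2, 0, -2, -2, 2, 2, 2],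
  [-2, 2, -2, 2, -2, 0, -2, -4, -2, 2, 0, 0, -2, -2, 0, 0, 2, 0, 2, 0, 0, 0, 0, 0],
  [0, 0, 0, 0, 0, 2, 0, 2, -4, 0, -2, -2, 0, 0, 2, -2, 0, 2, 0, -2, 2, -2, 2, 2],
  [0, 0, 0, 0, 0, 2, 0, -2, 0, -4, 2, 2, 0, 0, -2, -2, 0, -2, 0, 2, 2, -2, 2, 2],
  [-2, 2, -2, 2, -2, 0, 2, 0, 2, -2, -4, 0, -2, 2, 0, 0, -2, 0, -2, 0, 0, 0, 0, 0],
  [-2, 2, 2, -2, -2, 0, -2, 0, 2, -2, 0, -4, 2, -2, 0, 0, -2, 0, 2, 0, 0, 0, 0, 0],
  [0, 0, 0, 0, 0, -2, 0, 2, 0, 0, 2, -2, -4, 0, 2, -2, 0, -2, 0, 2, -2, 2, 2, 2],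
  [0, 0, 0, 0, 0, -2, 0, 2, 0, 0, -2, 2, 0, -4, -2, -2, 0, 2, 0, 2, 2, 2, -2, 2],
  [-2, -2, 2, -2, -2, 0, 2, 0, -2, 2, 0, 0, -2, 2, -4, 0, -2, 0, 2, 0, 0, 0, 0, 0],
  [-2, -2, -2, -2, -2, 0, -2, 0, 2, 2, 0, 0, 2, 2, 0, -4, 2, 0, -2, 0, 0, 0, 0, 0],
  [0, 0, 0, 0, 0, 2, 0, -2, 0, 0, 2, 2, 0, 0, 2, -2, -4, 2, 0, -2, -2, 2, -2, 2],
  [-2, 2, -2, -2, 2, 0, 2, 0, -2, 2, 0, 0, 2, -2, 0, 0, -2, -4, -2, 0, 0, 0, 0, 0],
  [0, 0, 0, 0, 0, -2, 0, -2, 0, 0, 2, -2, 0, 0, -2, 2, 0, 2, -4, -2, 2, 2, 2, 2],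
  [-2, -2, -2, -2, 2, 0, 2, 0, 2, -2, 0, 0, -2, -2, 0, 0, 2, 0, 2, -4, 0, 0, 0, 0],
  [-2, -2, 2, 2, -2, 0, 2, 0, -2, -2, 0, 0, 2, -2, 0, 0, 2, 0, -2, 0, -4, 0, 0, 0],
  [-2, -2, 2, 2, 2, 0, -2, 0, 2, 2, 0, 0, -2, -2, 0, 0, -2, 0, -2, 0, 0, -4, 0, 0],
  [-2, 2, 2, -2, 2, 0, -2, 0, -2, -2, 0, 0, -2, 2, 0, 0, 2, 0, -2, 0, 0, 0, -4, 0],
  [2, -2, -2, -2, -2, 0, -2, 0, -2, -2, 0, 0, -2, -2, 0, 0, -2, 0, -2, 0, 0, 0, 0, -4]]

/-- matrix (times 8) -/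
def rW : List (List ℤ) := [
  [8, 0, 0, 0, 0, 0, 0, 0, 0, 0, 0, 0, 0, 0, 0, 0, 0, 0, 0, 0, 0, 0, 0, 0],
  [0, 8, 0, 0, 0, 0, 0, 0, 0, 0, 0, 0, 0, 0, 0, 0, 0, 0, 0, 0, 0, 0, 0, 0],
  [0, 0, 8, 0, 0, 0, 0, 0, 0, 0, 0, 0, 0, 0, 0, 0, 0, 0, 0, 0, 0, 0, 0, 0],
  [0, 0, 0, 8, 0, 0, 0, 0, 0, 0, 0, 0, 0, 0, 0, 0, 0, 0, 0, 0, 0, 0, 0, 0],
  [0, 0, 0, 0, 8, 0, 0, 0, 0, 0, 0, 0, 0, 0, 0, 0, 0, 0, 0, 0, 0, 0, 0, 0],
  [0, 0, 0, 0, 0, -8, 0, 0, 0, 0, 0, 0, 0, 0, 0, 0, 0, 0, 0, 0, 0, 0, 0, 0],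
  [0, 0, 0, 0, 0, 0, 8, 0, 0, 0, 0, 0, 0, 0, 0, 0, 0, 0, 0, 0, 0, 0, 0, 0],
  [0, 0, 0, 0, 0, 0, 0, -8, 0, 0, 0, 0, 0, 0, 0, 0, 0, 0, 0, 0, 0, 0, 0, 0],
  [0, 0, 0, 0, 0, 0, 0, 0, 8, 0, 0, 0, 0, 0, 0, 0, 0, 0, 0, 0, 0, 0, 0, 0],
  [0, 0, 0, 0, 0, 0, 0, 0, 0, 8, 0, 0, 0, 0, 0, 0, 0, 0, 0, 0, 0, 0, 0, 0],
  [0, 0, 0, 0, 0, 0, 0, 0, 0, 0, -8, 0, 0, 0, 0, 0, 0, 0, 0, 0, 0, 0, 0, 0],
  [0, 0, 0, 0, 0, 0, 0, 0, 0, 0, 0, -8, 0, 0, 0, 0, 0, 0, 0, 0, 0, 0, 0, 0],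
  [0, 0, 0, 0, 0, 0, 0, 0, 0, 0, 0, 0, 8, 0, 0, 0, 0, 0, 0, 0, 0, 0, 0, 0],
  [0, 0, 0, 0, 0, 0, 0, 0, 0, 0, 0, 0, 0, 8, 0, 0, 0, 0, 0, 0, 0, 0, 0, 0],
  [0, 0, 0, 0, 0, 0, 0, 0, 0, 0, 0, 0, 0, 0, -8, 0, 0, 0, 0, 0, 0, 0, 0, 0],
  [0, 0, 0, 0, 0, 0, 0, 0, 0, 0, 0, 0, 0, 0, 0, -8, 0, 0, 0, 0, 0, 0, 0, 0],
  [0, 0, 0, 0, 0, 0, 0, 0, 0, 0, 0, 0, 0, 0, 0, 0, 8, 0, 0, 0, 0, 0, 0, 0],
  [0, 0, 0, 0, 0, 0, 0, 0, 0, 0, 0, 0, 0, 0, 0, 0, 0, -8, 0, 0, 0, 0, 0, 0],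
  [0, 0, 0, 0, 0, 0, 0, 0, 0, 0, 0, 0, 0, 0, 0, 0, 0, 0, 8, 0, 0, 0, 0, 0],
  [0, 0, 0, 0, 0, 0, 0, 0, 0, 0, 0, 0, 0, 0, 0, 0, 0, 0, 0, -8, 0, 0, 0, 0],
  [0, 0, 0, 0, 0, 0, 0, 0, 0, 0, 0, 0, 0, 0, 0, 0, 0, 0, 0, 0, -8, 0, 0, 0],
  [0, 0, 0, 0, 0, 0, 0, 0, 0, 0, 0, 0, 0, 0, 0, 0, 0, 0, 0, 0, 0, -8, 0, 0],
  [0, 0, 0, 0, 0, 0, 0, 0, 0, 0, 0, 0, 0, 0, 0, 0, 0, 0, 0, 0, 0, 0, -8, 0],
  [0, 0, 0, 0, 0, 0, 0, 0, 0, 0, 0, 0, 0, 0, 0, 0, 0, 0, 0, 0, 0, 0, 0, -8]]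

/-- matrix (times 8) -/
def rR : List (List ℤ) := [
  [8, 0, 0, 0, 0, 0, 0, 0, 0, 0, 0, 0, 0, 0, 0, 0, 0, 0, 0, 0, 0, 0, 0, 0],
  [0, 0, 0, 0, 0, 0, 0, 0, 0, 0, 0, 0, 8, 0, 0, 0, 0, 0, 0, 0, 0, 0, 0, 0],
  [0, 8, 0, 0, 0, 0, 0, 0, 0, 0, 0, 0, 0, 0, 0, 0, 0, 0, 0, 0, 0, 0, 0, 0],
  [0, 0, 0, 0, 0, 0, 0, 0, 0, 0, 0, 0, 0, 8, 0, 0, 0, 0, 0, 0, 0, 0, 0, 0],
  [0, 0, 8, 0, 0, 0, 0, 0, 0, 0, 0, 0, 0, 0, 0, 0, 0, 0, 0, 0, 0, 0, 0, 0],
  [0, 0, 0, 0, 0, 0, 0, 0, 0, 0, 0, 0, 0, 0, 8, 0, 0, 0, 0, 0, 0, 0, 0, 0],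
  [0, 0, 0, 8, 0, 0, 0, 0, 0, 0, 0, 0, 0, 0, 0, 0, 0, 0, 0, 0, 0, 0, 0, 0],
  [0, 0, 0, 0, 0, 0, 0, 0, 0, 0, 0, 0, 0, 0, 0, 8, 0, 0, 0, 0, 0, 0, 0, 0],
  [0, 0, 0, 0, 8, 0, 0, 0, 0, 0, 0, 0, 0, 0, 0, 0, 0, 0, 0, 0, 0, 0, 0, 0],
  [0, 0, 0, 0, 0, 0, 0, 0, 0, 0, 0, 0, 0, 0, 0, 0, 8, 0, 0, 0, 0, 0, 0, 0],
  [0, 0, 0, 0, 0, 8, 0, 0, 0, 0, 0, 0, 0, 0, 0, 0, 0, 0, 0, 0, 0, 0, 0, 0],
  [0, 0, 0, 0, 0, 0, 0, 0, 0, 0, 0, 0, 0, 0, 0, 0, 0, 8, 0, 0, 0, 0, 0, 0],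
  [0, 0, 0, 0, 0, 0, 8, 0, 0, 0, 0, 0, 0, 0, 0, 0, 0, 0, 0, 0, 0, 0, 0, 0],
  [0, 0, 0, 0, 0, 0, 0, 0, 0, 0, 0, 0, 0, 0, 0, 0, 0, 0, 8, 0, 0, 0, 0, 0],
  [0, 0, 0, 0, 0, 0, 0, 8, 0, 0, 0, 0, 0, 0, 0, 0, 0, 0, 0, 0, 0, 0, 0, 0],
  [0, 0, 0, 0, 0, 0, 0, 0, 0, 0, 0, 0, 0, 0, 0, 0, 0, 0, 0, 8, 0, 0, 0, 0],
  [0, 0, 0, 0, 0, 0, 0, 0, 8, 0, 0, 0, 0, 0, 0, 0, 0, 0, 0, 0, 0, 0, 0, 0],
  [0, 0, 0, 0, 0, 0, 0, 0, 0, 0, 0, 0, 0, 0, 0, 0, 0, 0, 0, 0, 8, 0, 0, 0],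
  [0, 0, 0, 0, 0, 0, 0, 0, 0, 8, 0, 0, 0, 0, 0, 0, 0, 0, 0, 0, 0, 0, 0, 0],
  [0, 0, 0, 0, 0, 0, 0, 0, 0, 0, 0, 0, 0, 0, 0, 0, 0, 0, 0, 0, 0, 8, 0, 0],
  [0, 0, 0, 0, 0, 0, 0, 0, 0, 0, 8, 0, 0, 0, 0, 0, 0, 0, 0, 0, 0, 0, 0, 0],
  [0, 0, 0, 0, 0, 0, 0, 0, 0, 0, 0, 0, 0, 0, 0, 0, 0, 0, 0, 0, 0, 0, 8, 0],
  [0, 0, 0, 0, 0, 0, 0, 0, 0, 0, 0, 8, 0, 0, 0, 0, 0, 0, 0, 0, 0, 0, 0, 0],
  [0, 0, 0, 0, 0, 0, 0, 0, 0, 0, 0, 0, 0, 0, 0, 0, 0, 0, 0, 0, 0, 0, 0, 8]]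

/-- matrix (times 8) -/
def rF : List (List ℤ) := [
  [8, 0, 0, 0, 0, 0, 0, 0, 0, 0, 0, 0, 0, 0, 0, 0, 0, 0, 0, 0, 0, 0, 0, 0],
  [0, 8, 0, 0, 0, 0, 0, 0, 0, 0, 0, 0, 0, 0, 0, 0, 0, 0, 0, 0, 0, 0, 0, 0],
  [0, 0, 0, 0, 0, 0, 0, 0, 0, 0, 0, 0, 0, 0, 0, 0, 8, 0, 0, 0, 0, 0, 0, 0],
  [0, 0, 0, 0, 0, 0, 0, 0, 0, 0, 0, 0, 8, 0, 0, 0, 0, 0, 0, 0, 0, 0, 0, 0],
  [0, 0, 0, 8, 0, 0, 0, 0, 0, 0, 0, 0, 0, 0, 0, 0, 0, 0, 0, 0, 0, 0, 0, 0],
  [0, 0, 0, 0, 0, 8, 0, 0, 0, 0, 0, 0, 0, 0, 0, 0, 0, 0, 0, 0, 0, 0, 0, 0],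
  [0, 0, 0, 0, 0, 0, 0, 0, 8, 0, 0, 0, 0, 0, 0, 0, 0, 0, 0, 0, 0, 0, 0, 0],
  [0, 0, 0, 0, 0, 0, 0, 0, 0, 0, 0, 0, 0, 0, 0, 0, 0, 8, 0, 0, 0, 0, 0, 0],
  [0, 0, 8, 0, 0, 0, 0, 0, 0, 0, 0, 0, 0, 0, 0, 0, 0, 0, 0, 0, 0, 0, 0, 0],
  [0, 0, 0, 0, 0, 0, 8, 0, 0, 0, 0, 0, 0, 0, 0, 0, 0, 0, 0, 0, 0, 0, 0, 0],
  [0, 0, 0, 0, 0, 0, 0, 0, 0, 0, 0, 8, 0, 0, 0, 0, 0, 0, 0, 0, 0, 0, 0, 0],
  [0, 0, 0, 0, 0, 0, 0, 0, 0, 0, 0, 0, 0, 0, 0, 0, 0, 0, 0, 0, 0, 0, 8, 0],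
  [0, 0, 0, 0, 0, 0, 0, 0, 0, 0, 0, 0, 0, 8, 0, 0, 0, 0, 0, 0, 0, 0, 0, 0],
  [0, 0, 0, 0, 0, 0, 0, 0, 0, 0, 0, 0, 0, 0, 0, 0, 0, 0, 8, 0, 0, 0, 0, 0],
  [0, 0, 0, 0, 0, 0, 0, 0, 0, 0, 0, 0, 0, 0, 0, 0, 0, 0, 0, 8, 0, 0, 0, 0],
  [0, 0, 0, 0, 0, 0, 0, 0, 0, 0, 0, 0, 0, 0, 8, 0, 0, 0, 0, 0, 0, 0, 0, 0],
  [0, 0, 0, 0, 0, 0, 0, 0, 0, 8, 0, 0, 0, 0, 0, 0, 0, 0, 0, 0, 0, 0, 0, 0],
  [0, 0, 0, 0, 0, 0, 0, 0, 0, 0, 8, 0, 0, 0, 0, 0, 0, 0, 0, 0, 0, 0, 0, 0],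
  [0, 0, 0, 0, 8, 0, 0, 0, 0, 0, 0, 0, 0, 0, 0, 0, 0, 0, 0, 0, 0, 0, 0, 0],
  [0, 0, 0, 0, 0, 0, 0, 0, 0, 0, 0, 0, 0, 0, 0, 0, 0, 0, 0, 0, 0, 8, 0, 0],
  [0, 0, 0, 0, 0, 0, 0, 0, 0, 0, 0, 0, 0, 0, 0, 8, 0, 0, 0, 0, 0, 0, 0, 0],
  [0, 0, 0, 0, 0, 0, 0, 0, 0, 0, 0, 0, 0, 0, 0, 0, 0, 0, 0, 0, 8, 0, 0, 0],
  [0, 0, 0, 0, 0, 0, 0, 8, 0, 0, 0, 0, 0, 0, 0, 0, 0, 0, 0, 0, 0, 0, 0, 0],
  [0, 0, 0, 0, 0, 0, 0, 0, 0, 0, 0, 0, 0, 0, 0, 0, 0, 0, 0, 0, 0, 0, 0, 8]]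

/-- matrix (times 8) -/
def rT : List (List ℤ) := [
  [0, 0, 0, 0, 0, 0, 0, 0, 0, 0, 0, 0, 0, 0, 0, 0, 0, 0, 0, 0, 0, 0, 0, 8],
  [0, 0, 0, 0, 0, 0, 0, 0, 0, 0, 0, 0, 0, 0, 0, 0, 0, 0, 0, 0, 0, 0, 8, 0],
  [0, 0, 0, 0, 0, 0, 0, 0, 0, 0, 0, 8, 0, 0, 0, 0, 0, 0, 0, 0, 0, 0, 0, 0],
  [0, 0, 0, 0, 0, 0, 0, 0, 0, 0, 0, 0, 0, 0, 0, 8, 0, 0, 0, 0, 0, 0, 0, 0],
  [0, 0, 0, 0, 0, 0, 0, 0, 0, 0, 0, 0, 0, 0, 0, 0, 0, 8, 0, 0, 0, 0, 0, 0],
  [0, 0, 0, 0, 0, 0, 0, 0, 0, 8, 0, 0, 0, 0, 0, 0, 0, 0, 0, 0, 0, 0, 0, 0],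
  [0, 0, 0, 0, 0, 0, 0, 0, 0, 0, 0, 0, 0, 0, 0, 0, 0, 0, 0, 8, 0, 0, 0, 0],
  [0, 0, 0, 0, 0, 0, 0, 0, 0, 0, 0, 0, 0, 8, 0, 0, 0, 0, 0, 0, 0, 0, 0, 0],
  [0, 0, 0, 0, 0, 0, 0, 0, 0, 0, 0, 0, 0, 0, 0, 0, 0, 0, 0, 0, 8, 0, 0, 0],
  [0, 0, 0, 0, 0, 8, 0, 0, 0, 0, 0, 0, 0, 0, 0, 0, 0, 0, 0, 0, 0, 0, 0, 0],
  [0, 0, 0, 0, 0, 0, 0, 0, 0, 0, 0, 0, 0, 0, 0, 0, 8, 0, 0, 0, 0, 0, 0, 0],
  [0, 0, 8, 0, 0, 0, 0, 0, 0, 0, 0, 0, 0, 0, 0, 0, 0, 0, 0, 0, 0, 0, 0, 0],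
  [0, 0, 0, 0, 0, 0, 0, 0, 0, 0, 0, 0, 0, 0, 0, 0, 0, 0, 0, 0, 0, 8, 0, 0],
  [0, 0, 0, 0, 0, 0, 0, 8, 0, 0, 0, 0, 0, 0, 0, 0, 0, 0, 0, 0, 0, 0, 0, 0],
  [0, 0, 0, 0, 0, 0, 0, 0, 0, 0, 0, 0, 0, 0, 0, 0, 0, 0, 8, 0, 0, 0, 0, 0],
  [0, 0, 0, 8, 0, 0, 0, 0, 0, 0, 0, 0, 0, 0, 0, 0, 0, 0, 0, 0, 0, 0, 0, 0],
  [0, 0, 0, 0, 0, 0, 0, 0, 0, 0, 8, 0, 0, 0, 0, 0, 0, 0, 0, 0, 0, 0, 0, 0],
  [0, 0, 0, 0, 8, 0, 0, 0, 0, 0, 0, 0, 0, 0, 0, 0, 0, 0, 0, 0, 0, 0, 0, 0],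
  [0, 0, 0, 0, 0, 0, 0, 0, 0, 0, 0, 0, 0, 0, 8, 0, 0, 0, 0, 0, 0, 0, 0, 0],
  [0, 0, 0, 0, 0, 0, 8, 0, 0, 0, 0, 0, 0, 0, 0, 0, 0, 0, 0, 0, 0, 0, 0, 0],
  [0, 0, 0, 0, 0, 0, 0, 0, 8, 0, 0, 0, 0, 0, 0, 0, 0, 0, 0, 0, 0, 0, 0, 0],
  [0, 0, 0, 0, 0, 0, 0, 0, 0, 0, 0, 0, 8, 0, 0, 0, 0, 0, 0, 0, 0, 0, 0, 0],
  [0, 8, 0, 0, 0, 0, 0, 0, 0, 0, 0, 0, 0, 0, 0, 0, 0, 0, 0, 0, 0, 0, 0, 0],
  [8, 0, 0, 0, 0, 0, 0, 0, 0, 0, 0, 0, 0, 0, 0, 0, 0, 0, 0, 0, 0, 0, 0, 0]]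

/-- fixed vectors and dual vectors of `e 2` -/
def vwR : List (List ℤ × List ℤ) := [
  ([-4, 0, 0, 0, 0, 0, 0, 0, 0, 0, 0, 0, 0, 0, 0, 0, 0, 0, 0, 0, 0, 0, 0, -4],
   [1, 1, 1, 1, 1, 1, 1, 1, 1, 1, 1, 1, 1, 1, 1, 1, 1, 1, 1, 1, 1, 1, 1, -3]),
  ([-4, 0, 0, 0, 0, 0, 0, 0, 0, 0, 0, 0, 0, 0, 0, 0, 0, 0, 0, 0, 0, 0, 0, 4],
   [-1, -1, 3, -1, 3, -3, 3, 1, -1, -1, 1, 1, -1, 3, 1, 1, 3, 1, 3, 1, -3, 1, 1, -3]),
  ([-3, 1, 1, 1, 1, -1, 1, -1, 1, 1, -1, -1, 1, 1, -1, -1, 1, -1, 1, -1, -1, -1, -1, -1],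
   [4, 0, 0, 0, 0, 0, 0, 0, 0, 0, 0, 0, 0, 0, 0, 0, 0, 0, 0, 0, 0, 0, 0, -4]),
  ([-3, 1, 1, 1, 1, 1, 1, 1, 1, 1, 1, 1, 1, 1, 1, 1, 1, 1, 1, 1, 1, 1, 1, 1],
   [0, 2, 2, 2, 2, 2, 0, 2, 0, 2, 2, 0, 0, 2, 2, 0, 0, 2, 0, 2, 0, 0, 0, 0])]

/-- fixed vectors and dual vectors of `e 3` -/
def vwF : List (List ℤ × List ℤ) := [
  ([-4, -4, 0, 0, 0, 0, 0, 0, 0, 0, 0, 0, 0, 0, 0, 0, 0, 0, 0, 0, 0, 0, 0, 0],
   [0, 2, 0, 0, 0, 0, 2, -2, 2, 2, 4, 2, 0, 2, 0, 2, 0, 2, -2, 2, -2, 0, 0, 0]),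
  ([-4, 0, 0, 0, 0, -4, 0, 0, 0, 0, 0, 0, 0, 0, 0, 0, 0, 0, 0, 0, 0, 0, 0, 0],
   [0, 0, -2, -2, -2, 2, 2, 0, -2, -2, 0, 0, 2, -2, -2, 2, 2, 0, 2, 2, -2, 2, 0, 0]),
  ([-4, 0, 0, 0, 0, 0, 0, 0, 0, 0, 0, 0, 0, 0, 0, 0, 0, 0, 0, 0, 0, 0, 0, -4],
   [1, 3, -1, -1, -1, -1, -3, -1, 1, 3, -1, 1, 1, -1, 3, -3, 1, 3, 1, 3, 1, 1, 1, 1]),
  ([-4, 0, 0, 0, 0, 0, 0, 0, 0, 0, 0, 0, 0, 0, 0, 0, 0, 0, 0, 0, 0, 0, 0, 4],
   [-1, -3, -1, 3, -1, 1, 1, 3, 1, 1, -3, -1, -1, 1, 1, -5, -1, -1, 1, -1, -1, 1, 1, 1]),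
  ([-3, -1, -1, 1, 1, -1, -1, 1, -1, -1, 1, 1, 1, 1, 1, 1, -1, 1, 1, 1, 1, 1, 1, -1],
   [4, 0, 0, 0, 0, 0, 0, 0, 0, 0, 0, 0, 0, 0, 0, 0, 0, 0, 0, 0, 0, 0, 0, -4]),
  ([-3, -1, -1, 1, 1, 1, -1, -1, -1, -1, -1, -1, 1, 1, -1, -1, -1, -1, 1, -1, -1, -1, -1, 1],
   [0, 4, 0, 4, 0, 0, 4, 0, 0, -2, -2, -2, 2, -2, 0, 0, 2, 0, 0, 2, 0, 2, 0, -4]),
  ([-3, -1, 1, -1, -1, -1, 1, -1, 1, 1, -1, -1, -1, -1, 1, 1, 1, -1, -1, 1, 1, 1, -1, 1],
   [0, 0, 0, 4, 0, 0, 4, 0, 0, -2, -2, -2, 2, -2, 0, 0, 2, 0, 0, 2, 0, 2, 0, 0]),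
  ([-3, 1, -1, -1, -1, -1, -1, 1, -1, -1, 1, 1, -1, -1, -1, -1, -1, 1, -1, -1, -1, -1, 1, 1],
   [0, 0, 0, -4, 4, 0, 0, 0, 0, 2, 2, -2, 2, 2, 0, 0, 2, 0, 0, 2, 0, -2, 0, 0])]

theorem okA : Ok rA (tr rA) := Cfsg.Agent.Co0Q_H800_ME_Data.ok_of (by decide +kernel)

theorem okW : Ok rW (tr rW) := Cfsg.Agent.Co0Q_H800_ME_Data.ok_of (by decide +kernel)

theorem okR : Ok rR (tr rR) := Cfsg.Agent.Co0Q_H800_ME_Data.ok_of (by decide +kernel)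

theorem okF : Ok rF (tr rF) := Cfsg.Agent.Co0Q_H800_ME_Data.ok_of (by decide +kernel)

theorem okT : Ok rT (tr rT) := Cfsg.Agent.Co0Q_H800_ME_Data.ok_of (by decide +kernel)

/-- the matrices -/
def M : ℕ → List (List ℤ)
  | 0 => rA
  | 1 => rW
  | 2 => rR
  | 3 => rF
  | _ => rT

theorem okM (i : ℕ) : Ok (M i) (tr (M i)) := by
  unfold M
  split
  · exact okA
  · exact okW
  · exact okR
  · exact okF
  · exact okT

/-- the elements -/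
noncomputable def e (i : ℕ) : Co0 := Cfsg.Agent.SporadicStructure.Co0Matrix.mk (okM i)

theorem rep (i : ℕ) : Rep (e i) (M i) := rep_mk (okM i)

/-- Equality of words in `Co0`. -/
theorem word_eq {w w' : List ℕ} (h : eqL (foldZ M w betaL) (foldZ M w' betaL) = true) :
    (w.map e).prod = (w'.map e).prod := by
  rw [foldZ_eq, foldZ_eq] at h
  have h1 := (fold_spec rep w (l := betaL) (v := beta) (by decide) rfl).2
  have h2 := (fold_spec rep w' (l := betaL) (v := beta) (by decide) rfl).2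
  rw [eqL_eq h, ← h2] at h1
  exact eq_of_fix (Subtype.ext h1)

theorem a_pow : e 0 ^ 3 = 1 := by
  have h := word_eq (w := List.replicate 3 0) (w' := []) (by decide +kernel)
  rwa [List.map_replicate, List.prod_replicate, List.map_nil, List.prod_nil] at h

theorem w_sq : e 1 * e 1 = 1 := by
  have h := word_eq (w := [1, 1]) (w' := []) (by decide +kernel)
  simpa only [List.map_cons, List.map_nil, List.prod_cons, List.prod_nil, mul_one] using h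

theorem r_pow : e 2 ^ 11 = 1 := by
  have h := word_eq (w := List.replicate 11 2) (w' := []) (by decide +kernel)
  rwa [List.map_replicate, List.prod_replicate, List.map_nil, List.prod_nil] at h

theorem f_pow : e 3 ^ 5 = 1 := by
  have h := word_eq (w := List.replicate 5 3) (w' := []) (by decide +kernel)
  rwa [List.map_replicate, List.prod_replicate, List.map_nil, List.prod_nil] at h

theorem wa : e 1 * e 0 = e 0 * (e 0 * e 1) := by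
  have h := word_eq (w := [1, 0]) (w' := [0, 0, 1]) (by decide +kernel)
  simpa only [List.map_cons, List.map_nil, List.prod_cons, List.prod_nil, mul_one] using h

theorem ar : e 0 * e 2 = e 2 * e 0 := by
  have h := word_eq (w := [0, 2]) (w' := [2, 0]) (by decide +kernel)
  simpa only [List.map_cons, List.map_nil, List.prod_cons, List.prod_nil, mul_one] using h

theorem wr : e 1 * e 2 = e 2 * e 1 := by
  have h := word_eq (w := [1, 2]) (w' := [2, 1]) (by decide +kernel)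
  simpa only [List.map_cons, List.map_nil, List.prod_cons, List.prod_nil, mul_one] using h

theorem fr' : e 3 * e 2 = e 2 * (e 2 * (e 2 * e 3)) := by
  have h := word_eq (w := [3, 2]) (w' := [2, 2, 2, 3]) (by decide +kernel)
  simpa only [List.map_cons, List.map_nil, List.prod_cons, List.prod_nil, mul_one] using h

theorem rtr : e 2 * (e 4 * e 2) = e 4 := by
  have h := word_eq (w := [2, 4, 2]) (w' := [4]) (by decide +kernel)
  simpa only [List.map_cons, List.map_nil, List.prod_cons, List.prod_nil, mul_one] using h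

theorem spanA : Cfsg.Agent.MFive.FixN.spanB 3 rA [] = true := Cfsg.Agent.Co0Q_H800_ME_Data.spanN (n := 2) (by decide +kernel)

/-- `e 0` has no fixed points. -/
theorem fr_a : fr (QuotientGroup.mk (e 0) : Co1) = 1 := by
  have h := Cfsg.Agent.MFive.FixN.card_fix (n := 3) (by decide) (rep 0) (vw := []) rfl rfl rfl spanA
  rwa [List.length_nil, pow_zero] at h

theorem latR : latB vwR = true := by decide +kernel

theorem fixR : fixB rR vwR = true := by decide +kernel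

theorem dualR : dualB vwR = true := by decide +kernel

theorem spanR : Cfsg.Agent.MFive.FixN.spanB 11 rR vwR = true := Cfsg.Agent.Co0Q_H800_ME_Data.spanN (n := 10) (by decide +kernel)

theorem fr_r : fr (QuotientGroup.mk (e 2) : Co1) = 2 ^ 4 :=
  Cfsg.Agent.MFive.FixN.card_fix (n := 11) (by decide) (rep 2) latR fixR dualR spanR

theorem latF : latB vwF = true := by decide +kernel

theorem fixF : fixB rF vwF = true := by decide +kernel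

theorem dualF : dualB vwF = true := by decide +kernel

theorem spanF : Cfsg.Agent.MFive.FixN.spanB 5 rF vwF = true := Cfsg.Agent.Co0Q_H800_ME_Data.spanN (n := 4) (by decide +kernel)

theorem fr_f : fr (QuotientGroup.mk (e 3) : Co1) = 2 ^ 8 :=
  Cfsg.Agent.MFive.FixN.card_fix (n := 5) (by decide) (rep 3) latF fixF dualF spanF

end Cfsg.Agent.H800.ME.Data
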